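import Cfsg.Agent.Lib.Hall.SystemNormalizer
import Cfsg.Agent.Lib.Coprime.Glauberman
import Cfsg.Agent.Lib.Cores.Basic

/-!
# Invariant Hall subgroups of solvable groups under coprime action

Namespace `Cfsg.Agent.Lib.Hall.Coprime`. `A, K ≤ G`, `A` normalises `K`, coprime orders, `K` solvable.
-/

set_option autoImplicit false
set_option linter.style.haveILetI false

open scoped Pointwise
open Cfsg

namespace Cfsg.Agent.Lib.Hall.Coprime

universe u

variable {G : Type u} [Group G]

theorem isPiHallOf_iff {π : Set ℕ} {H K : Subgroup G} :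
    IsPiHallOf π H K ↔ H ≤ K ∧ IsPiHall π (H.subgroupOf K) := by
  constructor
  · rintro ⟨hle, h1, h2⟩
    exact ⟨hle, fun q hq hd => h1 q hq
      (hd.trans (dvd_of_eq (Nat.card_congr (Subgroup.subgroupOfEquivOfLe hle).toEquiv))), h2⟩
  · rintro ⟨hle, h1, h2⟩
    exact ⟨hle, fun q hq hd => h1 q hq
      ((dvd_of_eq (Nat.card_congr (Subgroup.subgroupOfEquivOfLe hle).toEquiv).symm) |> hd.trans), h2⟩

theorem isPiHallOf_conj {π : Set ℕ} {H K : Subgroup G} (h : IsPiHallOf π H K) (g : G)
    (hg : MulAut.conj g • K = K) : IsPiHallOf π (MulAut.conj g • H) K := by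
  refine ⟨hg ▸ Subgroup.pointwise_smul_le_pointwise_smul_iff.2 h.1, fun q hq hd => h.2.1 q hq ?_,
    fun q hq hmem hd => h.2.2 q hq hmem ?_⟩
  · rwa [card_conj_smul] at hd
  · rwa [← hg, Subgroup.relIndex_pointwise_smul] at hd

/-- Two Hall subgroups of a solvable subgroup are conjugate inside it. -/
theorem exists_conj_of_isPiHallOf [Finite G] {π : Set ℕ} {H₁ H₂ K : Subgroup G}
    (hK : Group.IsSolvable K) (h₁ : IsPiHallOf π H₁ K) (h₂ : IsPiHallOf π H₂ K) :
    ∃ k ∈ K, MulAut.conj k • H₁ = H₂ := by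
  haveI := hK
  obtain ⟨k, hk⟩ := exists_conj_eq (isPiHallOf_iff.1 h₁).2 (isPiHallOf_iff.1 h₂).2
  refine ⟨k, k.2, ?_⟩
  have h := congrArg (Subgroup.map K.subtype) hk
  rwa [SystemNormalizer.map_conj_smul, Subgroup.map_subgroupOf_eq_of_le h₁.1,
    Subgroup.map_subgroupOf_eq_of_le h₂.1] at h

/-- An invariant Hall subgroup exists. -/
theorem exists_invariant [Finite G] {A K : Subgroup G} (hAK : A ≤ Subgroup.normalizer (K : Set G))
    (hcop : (Nat.card A).Coprime (Nat.card K)) (hK : Group.IsSolvable K) (π : Set ℕ) :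
    ∃ H : Subgroup G, IsPiHallOf π H K ∧ A ≤ Subgroup.normalizer (H : Set G) := by
  letI : MulAction G (Subgroup G) := MulAction.compHom (Subgroup G) (MulAut.conj (G := G))
  haveI := hK
  obtain ⟨H₀, hH₀⟩ := exists_isPiHallOf π K
  obtain ⟨H, hH, hfix⟩ := Lib.Coprime.exists_fixed_point (X := Subgroup G) {H | IsPiHallOf π H K}
    ⟨H₀, hH₀⟩ hAK hcop (Or.inr hK)
    (fun a ha H hH => isPiHallOf_conj hH a
      (SystemNormalizer.mem_normalizer_iff_conj_smul.1 (hAK ha)))
    (fun k hk H hH => isPiHallOf_conj hH k (SystemNormalizer.conj_smul_eq_self hk))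
    (fun H₁ h₁ H₂ h₂ => exists_conj_of_isPiHallOf hK h₁ h₂)
  exact ⟨H, hH, Lib.Coprime.smul_eq_iff_le_normalizer.1 hfix⟩

/-- Invariant Hall subgroups are conjugate under the fixed points. -/
theorem exists_conj_fixed [Finite G] {A K : Subgroup G} (hAK : A ≤ Subgroup.normalizer (K : Set G))
    (hcop : (Nat.card A).Coprime (Nat.card K)) (hK : Group.IsSolvable K) {π : Set ℕ}
    {H₁ H₂ : Subgroup G} (h₁ : IsPiHallOf π H₁ K) (h₂ : IsPiHallOf π H₂ K)
    (hA₁ : A ≤ Subgroup.normalizer (H₁ : Set G)) (hA₂ : A ≤ Subgroup.normalizer (H₂ : Set G)) :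
    ∃ c ∈ K ⊓ Subgroup.centralizer (A : Set G), MulAut.conj c • H₁ = H₂ := by
  letI : MulAction G (Subgroup G) := MulAction.compHom (Subgroup G) (MulAut.conj (G := G))
  exact Lib.Coprime.exists_fixed_smul_eq (X := Subgroup G) hAK hcop (Or.inr hK) (x := H₁) (y := H₂)
    (exists_conj_of_isPiHallOf hK h₁ h₂) (Lib.Coprime.smul_eq_iff_le_normalizer.2 hA₁)
    (Lib.Coprime.smul_eq_iff_le_normalizer.2 hA₂)

theorem le_normalizer_map {G' : Type*} [Group G'] (f : G →* G') {A H : Subgroup G}
    (h : A ≤ Subgroup.normalizer (H : Set G)) :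
    A.map f ≤ Subgroup.normalizer ((H.map f : Subgroup G') : Set G') :=
  (Subgroup.map_mono h).trans (Subgroup.le_normalizer_map f)

/-- The containment statement for a normal `K`. -/
theorem exists_invariant_ge_normal [Finite G] (A K : Subgroup G) [K.Normal]
    (hcop : (Nat.card A).Coprime (Nat.card K)) (hK : Group.IsSolvable K) (π : Set ℕ)
    (U : Subgroup G) (hUK : U ≤ K) (hUA : A ≤ Subgroup.normalizer (U : Set G))
    (hU : ∀ p : ℕ, p.Prime → p ∣ Nat.card U → p ∈ π) :
    ∃ H : Subgroup G, IsPiHallOf π H K ∧ A ≤ Subgroup.normalizer (H : Set G) ∧ U ≤ H := by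
  suffices key : ∀ (n : ℕ) (G : Type u) [Group G] [Finite G] (A K : Subgroup G) [K.Normal],
      Nat.card K = n → (Nat.card A).Coprime (Nat.card K) → Group.IsSolvable K →
      ∀ U : Subgroup G, U ≤ K → A ≤ Subgroup.normalizer (U : Set G) →
      (∀ p : ℕ, p.Prime → p ∣ Nat.card U → p ∈ π) →
      ∃ H : Subgroup G, IsPiHallOf π H K ∧ A ≤ Subgroup.normalizer (H : Set G) ∧ U ≤ H from
    key _ G A K rfl hcop hK U hUK hUA hU
  intro n
  induction n using Nat.strongRecOn with
  | ind n ih =>
    intro G _ _ A K _ hn hcop hK U hUK hUA hU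
    haveI := hK
    by_cases hKb : K = ⊥
    · subst hKb
      refine ⟨⊥, ⟨le_rfl, fun q hq hd => absurd (Subgroup.card_bot (G := G) ▸ hd) hq.not_dvd_one,
        fun q hq _ hd => hq.not_dvd_one (Subgroup.relIndex_self (⊥ : Subgroup G) ▸ hd)⟩, ?_, hUK⟩
      intro a _
      exact (SystemNormalizer.mem_normalizer_iff_conj_smul).2
        (SystemNormalizer.conj_smul_le_of_normal ⊥)
    haveI : Nontrivial K := (Subgroup.nontrivial_iff_ne_bot K).2 hKb
    obtain ⟨p, N₀, hp, hN₀n, hN₀ne, -, hN₀p⟩ := exists_normal_abelian_pgroup (G := K)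
    haveI := hN₀n
    haveI : Fact p.Prime := ⟨hp⟩
    set N := (pCore p K).map K.subtype with hNdef
    haveI : N.Normal := Cores.normal_map_subtype K (pCore p K)
    have hNne : N ≠ ⊥ := fun h => hN₀ne <| le_bot_iff.1 <| (Cores.le_pCore hN₀p).trans
      ((Subgroup.map_eq_bot_iff_of_injective _ K.subtype_injective).1 h).le
    have hNp : IsPGroup p N := (Cores.pCore_isPGroup p).map _
    have hNK : N ≤ K := Subgroup.map_subtype_le _
    set f := QuotientGroup.mk' N with hf
    have hsurj : Function.Surjective f := QuotientGroup.mk'_surjective N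
    haveI : (K.map f).Normal := Subgroup.Normal.map inferInstance f hsurj
    have hmul : Nat.card (K.map f) * Nat.card N = Nat.card K := by
      have h := Subgroup.relIndex_mul_relIndex (⊥ : Subgroup G) N K bot_le hNK
      have h2 := Subgroup.relIndex_ker (K := K) f
      rw [hf, QuotientGroup.ker_mk'] at h2
      rw [Subgroup.relIndex_bot_left, Subgroup.relIndex_bot_left, h2, mul_comm] at h
      exact h
    have hlt : Nat.card (K.map f) < n := by
      rw [← hn, ← hmul]
      exact lt_mul_of_one_lt_right Nat.card_pos ((Subgroup.one_lt_card_iff_ne_bot N).2 hNne)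
    obtain ⟨Hbar, hHbar, hAbar, hUbar⟩ := ih _ hlt (G ⧸ N) (A.map f) (K.map f) rfl
      ((hcop.coprime_dvd_left (Subgroup.card_map_dvd A f)).coprime_dvd_right
        (Subgroup.card_map_dvd K f))
      (Group.isSolvable_of_surjective (f := f.subgroupMap K) (f.subgroupMap_surjective K))
      (U.map f) (Subgroup.map_mono hUK) (le_normalizer_map f hUA)
      (fun q hq hd => hU q hq (hd.trans (Subgroup.card_map_dvd U f)))
    set L := Hbar.comap f with hL
    have hUL : U ≤ L := Subgroup.map_le_iff_le_comap.1 hUbar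
    have hNL : N ≤ L := QuotientGroup.le_comap_mk' N Hbar
    have hLK : L ≤ K := by
      refine (Subgroup.comap_mono hHbar.1).trans ?_
      rw [Subgroup.comap_map_eq, hf, QuotientGroup.ker_mk', sup_eq_left.2 hNK]
    have hAL : A ≤ Subgroup.normalizer (L : Set G) :=
      (Subgroup.map_le_iff_le_comap.1 hAbar).trans (Subgroup.le_normalizer_comap f)
    have hNrel : N.relIndex L = Nat.card Hbar := by
      have h := Subgroup.relIndex_ker (K := L) f
      rwa [hf, QuotientGroup.ker_mk', hL, Subgroup.map_comap_eq_self_of_surjective hsurj] at h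
    have hcardL : Nat.card L = Nat.card N * Nat.card Hbar := by
      have h := Subgroup.relIndex_mul_relIndex (⊥ : Subgroup G) N L bot_le hNL
      rw [Subgroup.relIndex_bot_left, Subgroup.relIndex_bot_left, hNrel] at h
      exact h.symm
    have hLrel : L.relIndex K = Hbar.relIndex (K.map f) := Subgroup.relIndex_comap Hbar f K
    by_cases hpπ : p ∈ π
    · refine ⟨L, ⟨hLK, fun q hq hd => ?_, fun q hq hmem hd => hHbar.2.2 q hq hmem (hLrel ▸ hd)⟩,
        hAL, hUL⟩
      rw [hcardL] at hd
      rcases hq.dvd_mul.1 hd with h | h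
      · exact prime_dvd_pgroup hp hq hNp h ▸ hpπ
      · exact hHbar.2.1 q hq h
    · haveI : Group.IsSolvable L :=
        Group.isSolvable_of_isSolvable_injective (Subgroup.inclusion_injective hLK)
      obtain ⟨H, hH, hAH⟩ := exists_invariant hAL
        (hcop.coprime_dvd_right (Subgroup.card_dvd_of_le hLK)) inferInstance π
      have hHK : IsPiHallOf π H K := ⟨hH.1.trans hLK, hH.2.1, fun q hq hmem hd => by
        rw [← Subgroup.relIndex_mul_relIndex H L K hH.1 hLK] at hd
        rcases hq.dvd_mul.1 hd with h | h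
        · exact hH.2.2 q hq hmem h
        · exact hHbar.2.2 q hq hmem (hLrel ▸ h)⟩
      have hHN : N ⊔ H = L := by
        refine le_antisymm (sup_le hNL hH.1) (Subgroup.relIndex_eq_one.1 ?_)
        refine Nat.eq_one_of_dvd_coprimes (coprime_of_piGroup hHbar.2.1 hH.2.2) ?_
          (Dvd.intro_left _ (Subgroup.relIndex_mul_relIndex H (N ⊔ H) L le_sup_right
            (sup_le hNL hH.1)))
        exact hNrel ▸ Dvd.intro_left _ (Subgroup.relIndex_mul_relIndex N (N ⊔ H) L le_sup_left
          (sup_le hNL hH.1))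
      set W := U ⊔ N with hW
      have hWK : W ≤ K := sup_le hUK hNK
      have hWA : A ≤ Subgroup.normalizer (W : Set G) := by
        intro a ha
        rw [SystemNormalizer.mem_normalizer_iff_conj_smul, hW, Subgroup.smul_sup,
          SystemNormalizer.mem_normalizer_iff_conj_smul.1 (hUA ha),
          SystemNormalizer.conj_smul_le_of_normal N]
      have hrelN : ∀ X : Subgroup G, X ≤ W → N ⊔ X = W → ∀ q : ℕ, q.Prime → q ∈ π →
          ¬ q ∣ X.relIndex W := fun X hX hs q hq hmem hd => by
        have h2 : X.relIndex (N ⊔ X) ∣ Nat.card N := by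
          have e2 := Subgroup.relIndex_mul_relIndex (X ⊓ N) X (N ⊔ X) inf_le_left le_sup_right
          have e3 := Subgroup.relIndex_mul_relIndex (X ⊓ N) N (N ⊔ X) inf_le_right le_sup_left
          rw [Subgroup.inf_relIndex_left] at e2
          rw [Subgroup.inf_relIndex_right, sup_comm N X, Subgroup.relIndex_sup_right,
            sup_comm X N] at e3
          have h3 : X.relIndex (N ⊔ X) = X.relIndex N :=
            Nat.eq_of_mul_eq_mul_left
              (Nat.pos_of_ne_zero (Subgroup.index_ne_zero_of_finite (H := N.subgroupOf X)))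
              (by rw [← Subgroup.relIndex, e2, ← e3, mul_comm])
          rw [h3]
          exact Subgroup.relIndex_dvd_card X N
        rw [← hs] at hd
        exact hpπ (prime_dvd_pgroup hp hq hNp (hd.trans h2) ▸ hmem)
      have hUW : IsPiHallOf π U W :=
        ⟨le_sup_left, hU, hrelN U le_sup_left (by rw [hW, sup_comm])⟩
      have hHW : IsPiHallOf π (H ⊓ W) W := by
        refine ⟨inf_le_right, fun q hq hd => hH.2.1 q hq (hd.trans
          (Subgroup.card_dvd_of_le inf_le_left)), hrelN _ inf_le_right ?_⟩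
        refine le_antisymm (sup_le le_sup_right inf_le_right) fun w hw => ?_
        obtain ⟨m, hm, h, hh, rfl⟩ := Subgroup.mem_sup_of_normal_left.1
          (show w ∈ N ⊔ H by rw [hHN]; exact sup_le hUL hNL hw)
        refine mul_mem (Subgroup.mem_sup_left hm) (Subgroup.mem_sup_right ⟨hh, ?_⟩)
        have := W.mul_mem (W.inv_mem (Subgroup.mem_sup_right hm)) hw
        rwa [inv_mul_cancel_left] at this
      obtain ⟨c, ⟨hcW, hcA⟩, hc⟩ := exists_conj_fixed hWA
        (hcop.coprime_dvd_right (Subgroup.card_dvd_of_le hWK))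
        (Group.isSolvable_of_isSolvable_injective (Subgroup.inclusion_injective hWK)) hHW hUW
        (fun a ha => SystemNormalizer.mem_normalizer_iff_conj_smul.2 (by
          rw [Subgroup.smul_inf, SystemNormalizer.mem_normalizer_iff_conj_smul.1 (hAH ha),
            SystemNormalizer.mem_normalizer_iff_conj_smul.1 (hWA ha)])) hUA
      refine ⟨MulAut.conj c • H,
        isPiHallOf_conj hHK c (SystemNormalizer.conj_smul_eq_self (hWK hcW)), fun a ha => ?_,
        hc ▸ Subgroup.pointwise_smul_le_pointwise_smul_iff.2 inf_le_left⟩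
      rw [SystemNormalizer.mem_normalizer_iff_conj_smul, ← mul_smul, ← map_mul,
        (Subgroup.mem_centralizer_iff.1 hcA) a ha, map_mul, mul_smul,
        SystemNormalizer.mem_normalizer_iff_conj_smul.1 (hAH ha)]

/-- Every invariant `π`-subgroup lies in an invariant Hall subgroup. -/
theorem exists_invariant_ge [Finite G] {A K : Subgroup G}
    (hAK : A ≤ Subgroup.normalizer (K : Set G))
    (hcop : (Nat.card A).Coprime (Nat.card K)) (hK : Group.IsSolvable K) (π : Set ℕ)
    {U : Subgroup G} (hUK : U ≤ K) (hUA : A ≤ Subgroup.normalizer (U : Set G))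
    (hU : ∀ p : ℕ, p.Prime → p ∣ Nat.card U → p ∈ π) :
    ∃ H : Subgroup G, IsPiHallOf π H K ∧ A ≤ Subgroup.normalizer (H : Set G) ∧ U ≤ H := by
  set T := A ⊔ K with hT
  haveI : (K.subgroupOf T).Normal :=
    (Subgroup.normal_subgroupOf_iff_le_normalizer le_sup_right).2 (sup_le hAK Subgroup.le_normalizer)
  have hc : ∀ X : Subgroup G, X ≤ T → Nat.card (X.subgroupOf T) = Nat.card X := fun X hX =>
    Nat.card_congr (Subgroup.subgroupOfEquivOfLe hX).toEquiv
  obtain ⟨H, hH, hAH, hUH⟩ := exists_invariant_ge_normal (A.subgroupOf T) (K.subgroupOf T)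
    (by rw [hc A le_sup_left, hc K le_sup_right]; exact hcop)
    (haveI := hK
     Group.isSolvable_of_isSolvable_injective
      (f := (Subgroup.subgroupOfEquivOfLe (le_sup_right : K ≤ T)).toMonoidHom)
      (MulEquiv.injective _)) π (U.subgroupOf T)
    (Subgroup.comap_mono hUK) ((Subgroup.comap_mono hUA).trans (Subgroup.le_normalizer_comap _))
    (fun q hq hd => hU q hq (by rwa [hc U (hUK.trans le_sup_right)] at hd))
  have hle : H.map T.subtype ≤ K := by
    rw [← Subgroup.map_subgroupOf_eq_of_le (le_sup_right : K ≤ T)]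
    exact Subgroup.map_mono hH.1
  refine ⟨H.map T.subtype, ⟨hle, fun q hq hd => hH.2.1 q hq ?_, fun q hq hmem hd => ?_⟩, ?_, ?_⟩
  · rwa [Subgroup.card_subtype] at hd
  · refine hH.2.2 q hq hmem ?_
    rwa [← Subgroup.relIndex_map_map_of_injective H (K.subgroupOf T) T.subtype_injective,
      Subgroup.map_subgroupOf_eq_of_le (le_sup_right : K ≤ T)]
  · rw [← Subgroup.map_subgroupOf_eq_of_le (le_sup_left : A ≤ T)]
    exact le_normalizer_map T.subtype hAH
  · rw [← Subgroup.map_subgroupOf_eq_of_le (hUK.trans le_sup_right : U ≤ T)]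
    exact Subgroup.map_mono hUH

end Cfsg.Agent.Lib.Hall.Coprime
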