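import Mathlib.GroupTheory.SchurZassenhaus
import Mathlib.GroupTheory.Solvable
import Mathlib.GroupTheory.Sylow
import Cfsg.Prelude.Def_OddOrderLocal

/-!
# Hall subgroups of finite solvable groups

Namespace `Cfsg.Agent.Lib.Hall`. A Hall `π`-subgroup is `Cfsg.IsPiHall π H`; the hypothesis
"`K` is a `π`-subgroup" is always the unfolded `∀ p, p.Prime → p ∣ Nat.card K → p ∈ π`.

Main results, for a finite solvable group: `exists_isPiHall`, `exists_isPiHall_ge`,
`exists_conj_le`, `exists_conj_eq`.
-/

set_option autoImplicit false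
set_option linter.style.haveILetI false

open scoped Pointwise
open Cfsg

namespace Cfsg.Agent.Lib.Hall

universe u v

variable {G : Type u} [Group G]

/-! ### Complements of a normal subgroup -/

/-- Disjointness and generation give a complement of a normal subgroup. -/
theorem isComplement'_of_normal {N H : Subgroup G} [N.Normal] (hd : N ⊓ H = ⊥) (hs : N ⊔ H = ⊤) :
    Subgroup.IsComplement' N H :=
  Subgroup.isComplement'_of_disjoint_and_mul_eq_univ (disjoint_iff.2 hd) (by
    rw [← Subgroup.normal_mul, hs]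
    rfl)

/-- Two subgroups of coprime order meet trivially. -/
theorem inf_eq_bot_of_coprime {H K : Subgroup G}
    (h : (Nat.card H).Coprime (Nat.card K)) : H ⊓ K = ⊥ :=
  Subgroup.eq_bot_of_card_eq _ <| Nat.eq_one_of_dvd_coprimes h
    (Subgroup.card_dvd_of_le inf_le_left) (Subgroup.card_dvd_of_le inf_le_right)

open MulOpposite MulAction in
/-- All complements of an abelian normal Hall subgroup `A` are conjugate under `A`. -/
theorem exists_conj_of_abelian [Finite G] (A : Subgroup G) [A.Normal] [IsMulCommutative A]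
    (hA : (Nat.card A).Coprime A.index)
    (H K : Subgroup G) (hH : Subgroup.IsComplement' A H) (hK : Subgroup.IsComplement' A K) :
    ∃ a ∈ A, MulAut.conj a • H = K := by
  let q : A.LeftTransversal → A.QuotientDiff := fun α => Quotient.mk'' α
  have key : ∀ (L : Subgroup G) (hL : Subgroup.IsComplement' A L),
      MulAction.stabilizer G (q ⟨(L : Set G), hL.symm⟩) = L := by
    intro L hL
    refine (Subgroup.eq_of_le_of_card_ge ?_ ?_).symm
    · intro h hh
      rw [MulAction.mem_stabilizer_iff]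
      refine congrArg Quotient.mk'' (Subtype.ext ?_)
      show (op h⁻¹ : Gᵐᵒᵖ) • (L : Set G) = (L : Set G)
      exact op_smul_coe_set (inv_mem hh)
    · refine le_of_eq ?_
      rw [← hL.symm.index_eq_card,
        ← (Subgroup.isComplement'_stabilizer_of_coprime hA).symm.index_eq_card]
  obtain ⟨a, ha⟩ := Subgroup.exists_smul_eq hA (q ⟨(H : Set G), hH.symm⟩) (q ⟨(K : Set G), hK.symm⟩)
  refine ⟨a, a.2, ?_⟩
  have h1 := MulAction.stabilizer_smul_eq_stabilizer_map_conj (a : G) (q ⟨(H : Set G), hH.symm⟩)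
  rw [key H hH] at h1
  rw [Subgroup.smul_def] at ha
  rw [ha, key K hK] at h1
  exact h1.symm

/-! ### `π`-numbers -/

theorem coprime_of_piGroup {π : Set ℕ} {a b : ℕ} (ha : ∀ p : ℕ, p.Prime → p ∣ a → p ∈ π)
    (hb : ∀ p : ℕ, p.Prime → p ∈ π → ¬ p ∣ b) : a.Coprime b :=
  Nat.coprime_of_dvd fun p hp h1 h2 => hb p hp (ha p hp h1) h2

/-- The order of `H ⊔ K` divides the product of the orders when `K` is normal. -/
theorem card_sup_dvd (H K : Subgroup G) [K.Normal] :
    Nat.card (H ⊔ K : Subgroup G) ∣ Nat.card H * Nat.card K := by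
  have h := Subgroup.relIndex_mul_relIndex (⊥ : Subgroup G) K (H ⊔ K) bot_le le_sup_right
  rw [Subgroup.relIndex_bot_left, Subgroup.relIndex_bot_left, Subgroup.relIndex_sup_right] at h
  rw [← h, mul_comm (Nat.card H)]
  exact mul_dvd_mul_left _ (Subgroup.relIndex_dvd_card _ _)

/-- An element conjugate has the same order. -/
theorem card_conj_smul (H : Subgroup G) (g : G) :
    Nat.card (MulAut.conj g • H : Subgroup G) = Nat.card H :=
  Nat.card_congr (Subgroup.equivSMul (MulAut.conj g) H).toEquiv.symm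

theorem index_conj_smul (H : Subgroup G) (g : G) :
    (MulAut.conj g • H : Subgroup G).index = H.index :=
  Subgroup.index_map_equiv H (MulAut.conj g)

/-! ### Basic facts about Hall subgroups -/

theorem isPiHall_conj {π : Set ℕ} {H : Subgroup G} (h : IsPiHall π H) (g : G) :
    IsPiHall π (MulAut.conj g • H) := by
  unfold IsPiHall
  rw [card_conj_smul, index_conj_smul]
  exact h

theorem isPiHall_map {G' : Type v} [Group G'] {π : Set ℕ} {H : Subgroup G} (h : IsPiHall π H)
    (f : G →* G') (hf : Function.Surjective f) : IsPiHall π (H.map f) :=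
  ⟨fun p hp hd => h.1 p hp (hd.trans (Subgroup.card_map_dvd H f)),
    fun p hp hmem hd => h.2 p hp hmem (hd.trans (Subgroup.index_map_dvd H hf))⟩

theorem isPiHall_coprime {π : Set ℕ} {H : Subgroup G} (h : IsPiHall π H) :
    (Nat.card H).Coprime H.index :=
  coprime_of_piGroup h.1 h.2

/-- A Hall subgroup is a maximal `π`-subgroup. -/
theorem isPiHall_eq_of_le [Finite G] {π : Set ℕ} {H M : Subgroup G} (hH : IsPiHall π H)
    (hM : ∀ p : ℕ, p.Prime → p ∣ Nat.card M → p ∈ π) (hle : H ≤ M) : H = M := by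
  refine le_antisymm hle (Subgroup.relIndex_eq_one.1 ?_)
  refine Nat.eq_one_of_dvd_coprimes (coprime_of_piGroup hM hH.2) ?_
    (Dvd.intro _ (Subgroup.relIndex_mul_index hle))
  exact Subgroup.relIndex_dvd_card _ _

/-- Hall `π`-subgroups all have the same order. -/
theorem isPiHall_card_eq [Finite G] {π : Set ℕ} {H K : Subgroup G} (hH : IsPiHall π H)
    (hK : IsPiHall π K) : Nat.card H = Nat.card K := by
  have key : ∀ H K : Subgroup G, IsPiHall π H → IsPiHall π K → Nat.card H ∣ Nat.card K := by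
    intro H K hH hK
    exact ((coprime_of_piGroup hH.1 hK.2)).dvd_of_dvd_mul_right
      (K.card_mul_index.symm ▸ Subgroup.card_subgroup_dvd_card H)
  exact Nat.dvd_antisymm (key H K hH hK) (key K H hK hH)

/-- The intersection of a Hall subgroup with a normal subgroup is a Hall subgroup of it. -/
theorem isPiHall_subgroupOf_normal [Finite G] {π : Set ℕ} {H : Subgroup G} (hH : IsPiHall π H)
    (N : Subgroup G) [N.Normal] : IsPiHall π (H.subgroupOf N) := by
  refine ⟨fun p hp hd => hH.1 p hp
    (hd.trans (Subgroup.card_comap_dvd_of_injective H N.subtype N.subtype_injective)), ?_⟩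
  intro p hp hmem hd
  refine hH.2 p hp hmem (hd.trans ?_)
  have h1 : H.relIndex N = H.relIndex (H ⊔ N) := by
    have e1 := Subgroup.relIndex_sup_right (H := H) (K := N)
    have e2 := Subgroup.relIndex_mul_relIndex (H ⊓ N) H (H ⊔ N) inf_le_left le_sup_left
    have e3 := Subgroup.relIndex_mul_relIndex (H ⊓ N) N (H ⊔ N) inf_le_right le_sup_right
    rw [Subgroup.inf_relIndex_left] at e2
    rw [Subgroup.inf_relIndex_right, e1] at e3
    refine Nat.eq_of_mul_eq_mul_left (Nat.pos_of_ne_zero ?_) (by rw [e2, ← e3, mul_comm])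
    exact Subgroup.index_ne_zero_of_finite
  show H.relIndex N ∣ H.index
  rw [h1]
  exact Dvd.intro _ (Subgroup.relIndex_mul_index le_sup_left)

/-- A `π`-subgroup containing no more than a normal Hall subgroup. -/
theorem le_of_isPiHall_normal [Finite G] {π : Set ℕ} {H K : Subgroup G} [H.Normal]
    (hH : IsPiHall π H) (hK : ∀ p : ℕ, p.Prime → p ∣ Nat.card K → p ∈ π) : K ≤ H := by
  have h : H = K ⊔ H := isPiHall_eq_of_le hH (fun p hp hd =>
    (hp.dvd_mul.1 (hd.trans (card_sup_dvd K H))).elim (hK p hp) (hH.1 p hp)) le_sup_right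
  rw [h]
  exact le_sup_left

/-! ### Solvable groups -/

/-- A nontrivial normal subgroup of a finite solvable group contains a nontrivial normal abelian
`p`-subgroup. -/
theorem exists_normal_abelian_pgroup_le [Finite G] [Group.IsSolvable G] {M : Subgroup G} [M.Normal]
    (hM : M ≠ ⊥) :
    ∃ (p : ℕ) (N : Subgroup G), p.Prime ∧ N.Normal ∧ N ≠ ⊥ ∧ N ≤ M ∧
      (∀ a ∈ N, ∀ b ∈ N, a * b = b * a) ∧ IsPGroup p N := by
  suffices key : ∀ M : Subgroup G, M.Normal → M ≠ ⊥ →
      ∃ (p : ℕ) (N : Subgroup G), p.Prime ∧ N.Normal ∧ N ≠ ⊥ ∧ N ≤ M ∧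
        (∀ a ∈ N, ∀ b ∈ N, a * b = b * a) ∧ IsPGroup p N from key M ‹_› hM
  clear hM
  intro M
  induction M using WellFoundedLT.induction with
  | ind M ih =>
    intro hMn hM
    by_cases hc : ⁅M, M⁆ = ⊥
    · have hcomm : ∀ a ∈ M, ∀ b ∈ M, a * b = b * a := fun a ha b hb =>
        commutatorElement_eq_one_iff_mul_comm.1
          ((Subgroup.commutator_eq_bot_iff_le_centralizer).1 hc |> fun h =>
            commutatorElement_eq_one_iff_mul_comm.2
              ((Subgroup.mem_centralizer_iff.1 (h ha)) b hb).symm)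
      obtain ⟨p, hp, hdvd⟩ := Nat.exists_prime_and_dvd
        (fun h => hM (Subgroup.eq_bot_of_card_eq M h))
      haveI : Fact p.Prime := ⟨hp⟩
      let N : Subgroup G :=
        { carrier := {x | x ∈ M ∧ x ^ p = 1}
          mul_mem' := fun {a b} ha hb => ⟨mul_mem ha.1 hb.1, by
            rw [Commute.mul_pow (hcomm a ha.1 b hb.1), ha.2, hb.2, mul_one]⟩
          one_mem' := ⟨one_mem _, one_pow _⟩
          inv_mem' := fun {a} ha => ⟨inv_mem ha.1, by rw [inv_pow, ha.2, inv_one]⟩ }
      refine ⟨p, N, hp, ⟨fun x hx g => ⟨Subgroup.Normal.conj_mem ‹_› x hx.1 g, ?_⟩⟩, ?_,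
        fun x hx => hx.1, fun a ha b hb => hcomm a ha.1 b hb.1,
        fun x => ⟨1, Subtype.ext (by simpa using x.2.2)⟩⟩
      · show (g * x * g⁻¹) ^ p = 1
        rw [conj_pow, hx.2, mul_one, mul_inv_cancel]
      · obtain ⟨x, hx⟩ := exists_prime_orderOf_dvd_card' (G := M) p hdvd
        intro hbot
        have hxN : (x : G) ∈ N := ⟨x.2, by
          rw [← hx, ← SubmonoidClass.coe_pow, pow_orderOf_eq_one]; rfl⟩
        rw [hbot, Subgroup.mem_bot] at hxN
        have : orderOf x = 1 := by
          rw [orderOf_eq_one_iff]; exact Subtype.ext hxN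
        rw [hx] at this
        exact hp.ne_one this
    · haveI : (⁅M, M⁆ : Subgroup G).Normal := Subgroup.commutator_normal M M
      obtain ⟨p, N, hp, hn, hne, hle, hab, hpg⟩ :=
        ih _ (Group.IsSolvable.commutator_lt_of_ne_bot hM) inferInstance hc
      exact ⟨p, N, hp, hn, hne, hle.trans (Subgroup.commutator_le_right M M), hab, hpg⟩

/-- A nontrivial finite solvable group has a nontrivial normal abelian `p`-subgroup. -/
theorem exists_normal_abelian_pgroup [Finite G] [Group.IsSolvable G] [Nontrivial G] :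
    ∃ (p : ℕ) (N : Subgroup G), p.Prime ∧ N.Normal ∧ N ≠ ⊥ ∧
      (∀ a ∈ N, ∀ b ∈ N, a * b = b * a) ∧ IsPGroup p N := by
  obtain ⟨p, N, hp, hn, hne, -, hab, hpg⟩ :=
    exists_normal_abelian_pgroup_le (M := (⊤ : Subgroup G)) top_ne_bot
  exact ⟨p, N, hp, hn, hne, hab, hpg⟩

theorem prime_dvd_pgroup {p q : ℕ} [Finite G] {N : Subgroup G} (hp : p.Prime) (hq : q.Prime)
    (hN : IsPGroup p N) (hd : q ∣ Nat.card N) : q = p := by
  haveI : Fact p.Prime := ⟨hp⟩
  obtain ⟨n, hn⟩ := IsPGroup.iff_card.1 hN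
  rw [hn] at hd
  exact (Nat.prime_dvd_prime_iff_eq hq hp).1 (hq.dvd_of_dvd_pow hd)

theorem card_quotient_lt [Finite G] {N : Subgroup G} (hne : N ≠ ⊥) :
    Nat.card (G ⧸ N) < Nat.card G := by
  rw [Subgroup.card_eq_card_quotient_mul_card_subgroup N]
  exact lt_mul_of_one_lt_right Nat.card_pos (Subgroup.one_lt_card_iff_ne_bot N |>.2 hne)

/-- Existence of Hall subgroups in finite solvable groups. -/
theorem exists_isPiHall (π : Set ℕ) [Finite G] [Group.IsSolvable G] :
    ∃ H : Subgroup G, IsPiHall π H := by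
  suffices key : ∀ (n : ℕ) (G : Type u) [Group G] [Finite G] [Group.IsSolvable G],
      Nat.card G = n → ∃ H : Subgroup G, IsPiHall π H from key _ G rfl
  intro n
  induction n using Nat.strongRecOn with
  | ind n ih =>
    intro G _ _ _ hn
    rcases subsingleton_or_nontrivial G with hG | hG
    · refine ⟨⊥, fun p hp hd => ?_, fun p hp _ hd => ?_⟩
      · exact absurd (Subgroup.card_bot (G := G) ▸ hd) hp.not_dvd_one
      · rw [Subgroup.index_bot, Nat.card_of_subsingleton (1 : G)] at hd
        exact hp.not_dvd_one hd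
    obtain ⟨p, N, hp, hNn, hne, hab, hpg⟩ := exists_normal_abelian_pgroup (G := G)
    haveI := hNn
    obtain ⟨K, hK⟩ := ih (Nat.card (G ⧸ N)) (hn ▸ card_quotient_lt hne) (G ⧸ N) rfl
    set L := K.comap (QuotientGroup.mk' N) with hL
    have hNL : N ≤ L := by
      intro x hx
      rw [hL, Subgroup.mem_comap, QuotientGroup.mk'_apply, (QuotientGroup.eq_one_iff x).2 hx]
      exact one_mem K
    have hidx : L.index = K.index :=
      Subgroup.index_comap_of_surjective K (QuotientGroup.mk'_surjective N)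
    have hcard : Nat.card L = Nat.card K * Nat.card N := by
      refine Nat.eq_of_mul_eq_mul_right (Nat.pos_of_ne_zero
        (Subgroup.index_ne_zero_of_finite (H := L))) ?_
      rw [Subgroup.card_mul_index L, hidx, mul_right_comm, Subgroup.card_mul_index K,
        ← Subgroup.card_eq_card_quotient_mul_card_subgroup]
    by_cases hpπ : p ∈ π
    · refine ⟨L, fun q hq hd => ?_, fun q hq hmem => hidx ▸ hK.2 q hq hmem⟩
      rw [hcard] at hd
      rcases hq.dvd_mul.1 hd with h | h
      · exact hK.1 q hq h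
      · exact prime_dvd_pgroup hp hq hpg h ▸ hpπ
    · have hcop : (Nat.card K).Coprime (Nat.card N) :=
        coprime_of_piGroup hK.1 fun q hq hmem hd => hpπ (prime_dvd_pgroup hp hq hpg hd ▸ hmem)
      have hNc : Nat.card (N.subgroupOf L) = Nat.card N :=
        Nat.card_congr (Subgroup.subgroupOfEquivOfLe hNL).toEquiv
      have hNi : (N.subgroupOf L).index = Nat.card K := by
        refine Nat.eq_of_mul_eq_mul_right (Nat.card_pos (α := N.subgroupOf L)) ?_
        rw [mul_comm, Subgroup.card_mul_index, hcard, hNc]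
      obtain ⟨C, hC⟩ := Subgroup.exists_right_complement'_of_coprime
        (N := N.subgroupOf L) (by rw [hNi, hNc]; exact hcop.symm)
      have hCc : Nat.card (C.map L.subtype) = Nat.card K := by
        rw [Subgroup.card_subtype, ← hNi, hC.symm.index_eq_card]
      refine ⟨C.map L.subtype, fun q hq hd => hK.1 q hq (hCc ▸ hd), fun q hq hmem hd => ?_⟩
      rw [Subgroup.index_map_subtype, hC.index_eq_card, hNc, hidx] at hd
      rcases hq.dvd_mul.1 hd with h | h
      · exact hpπ (prime_dvd_pgroup hp hq hpg h ▸ hmem)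
      · exact hK.2 q hq hmem h

/-- In a finite solvable group every `π`-subgroup is contained in a conjugate of a given Hall
`π`-subgroup. -/
theorem exists_conj_le {π : Set ℕ} [Finite G] [Group.IsSolvable G] {H : Subgroup G}
    (hH : IsPiHall π H) {K : Subgroup G}
    (hK : ∀ p : ℕ, p.Prime → p ∣ Nat.card K → p ∈ π) :
    ∃ g : G, K ≤ MulAut.conj g • H := by
  suffices key : ∀ (n : ℕ) (G : Type u) [Group G] [Finite G] [Group.IsSolvable G],
      Nat.card G = n → ∀ (H K : Subgroup G), IsPiHall π H →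
        (∀ p : ℕ, p.Prime → p ∣ Nat.card K → p ∈ π) → ∃ g : G, K ≤ MulAut.conj g • H from
    key _ G rfl H K hH hK
  intro n
  induction n using Nat.strongRecOn with
  | ind n ih =>
    intro G _ _ _ hn H K hH hK
    rcases subsingleton_or_nontrivial G with hG | hG
    · exact ⟨1, fun x hx => by rw [Subsingleton.elim x 1]; exact one_mem _⟩
    obtain ⟨p, N, hp, hNn, hne, hab, hpg⟩ := exists_normal_abelian_pgroup (G := G)
    haveI := hNn
    obtain ⟨gbar, hg⟩ := ih (Nat.card (G ⧸ N)) (hn ▸ card_quotient_lt hne) (G ⧸ N) rfl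
      (H.map (QuotientGroup.mk' N)) (K.map (QuotientGroup.mk' N))
      (isPiHall_map hH _ (QuotientGroup.mk'_surjective N))
      (fun q hq hd => hK q hq (hd.trans (Subgroup.card_map_dvd _ _)))
    obtain ⟨g, rfl⟩ := QuotientGroup.mk'_surjective N gbar
    set H' := MulAut.conj g • H with hH'
    have hH'h : IsPiHall π H' := isPiHall_conj hH g
    have hmap : H'.map (QuotientGroup.mk' N) =
        MulAut.conj (QuotientGroup.mk' N g) • H.map (QuotientGroup.mk' N) := by
      rw [hH']
      show (H.map (MulAut.conj g).toMonoidHom).map _ =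
        (H.map (QuotientGroup.mk' N)).map (MulAut.conj (QuotientGroup.mk' N g)).toMonoidHom
      rw [Subgroup.map_map, Subgroup.map_map]
      congr 1
    have hKle : K ≤ H' ⊔ N := by
      intro x hx
      have h1 := hg (Subgroup.mem_map_of_mem (QuotientGroup.mk' N) hx)
      rw [← hmap] at h1
      have h2 : x ∈ (H'.map (QuotientGroup.mk' N)).comap (QuotientGroup.mk' N) := h1
      rwa [Subgroup.comap_map_eq, QuotientGroup.ker_mk'] at h2
    by_cases hpπ : p ∈ π
    · refine ⟨g, le_of_le_of_eq hKle (isPiHall_eq_of_le hH'h ?_ le_sup_left).symm⟩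
      intro q hq hd
      rcases hq.dvd_mul.1 (hd.trans (card_sup_dvd H' N)) with h | h
      · exact hH'h.1 q hq h
      · exact prime_dvd_pgroup hp hq hpg h ▸ hpπ
    · have hcopK : (Nat.card K).Coprime (Nat.card N) :=
        coprime_of_piGroup hK fun q hq hmem hd => hpπ (prime_dvd_pgroup hp hq hpg hd ▸ hmem)
      set M := K ⊔ N with hM
      have hcopC : (Nat.card (H' ⊓ M : Subgroup G)).Coprime (Nat.card N) :=
        Nat.Coprime.of_dvd_left (Subgroup.card_dvd_of_le inf_le_left)
          (coprime_of_piGroup hH'h.1 fun q hq hmem hd =>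
            hpπ (prime_dvd_pgroup hp hq hpg hd ▸ hmem))
      have hNM : N ≤ M := le_sup_right
      have hsup : N ⊔ (H' ⊓ M) = M := by
        refine le_antisymm (sup_le hNM inf_le_right) fun m hm => ?_
        have hm' : m ∈ N ⊔ H' := by
          rw [sup_comm]; exact (sup_le hKle le_sup_right) hm
        obtain ⟨a, ha, b, hb, rfl⟩ := Subgroup.mem_sup_of_normal_left.1 hm'
        have hbM : b ∈ M := by
          have := M.mul_mem (M.inv_mem (hNM ha)) hm
          rwa [inv_mul_cancel_left] at this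
        exact mul_mem (Subgroup.mem_sup_left ha) (Subgroup.mem_sup_right ⟨hb, hbM⟩)
      haveI : IsMulCommutative (N.subgroupOf M) :=
        ⟨⟨fun a b => Subtype.ext (Subtype.ext (hab _ a.2 _ b.2))⟩⟩
      have hcompl : ∀ X : Subgroup G, X ≤ M → N ⊔ X = M → (Nat.card X).Coprime (Nat.card N) →
          Subgroup.IsComplement' (N.subgroupOf M) (X.subgroupOf M) := by
        intro X hX hs hc
        refine isComplement'_of_normal ?_ ?_
        · have := inf_eq_bot_of_coprime hc.symm
          rw [Subgroup.subgroupOf, Subgroup.subgroupOf, ← Subgroup.comap_inf, this,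
            MonoidHom.comap_bot, Subgroup.ker_subtype]
        · rw [← Subgroup.subgroupOf_sup hNM hX, hs, Subgroup.subgroupOf_self]
      have hA : (Nat.card (N.subgroupOf M)).Coprime (N.subgroupOf M).index := by
        have h1 := hcompl K le_sup_left (by rw [hM, sup_comm]) hcopK
        rw [h1.symm.index_eq_card, Nat.card_congr (Subgroup.subgroupOfEquivOfLe hNM).toEquiv,
          Nat.card_congr (Subgroup.subgroupOfEquivOfLe (le_sup_left : K ≤ M)).toEquiv]
        exact hcopK.symm
      obtain ⟨a, -, hak⟩ := exists_conj_of_abelian (N.subgroupOf M) hA _ _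
        (hcompl (H' ⊓ M) inf_le_right hsup hcopC)
        (hcompl K le_sup_left (by rw [hM, sup_comm]) hcopK)
      refine ⟨(a : G) * g, fun x hx => ?_⟩
      have hx' : (⟨x, (le_sup_left : K ≤ M) hx⟩ : M) ∈ K.subgroupOf M := hx
      rw [← hak] at hx'
      obtain ⟨y, hy, hyx⟩ := hx'
      obtain ⟨z, hz, hzy⟩ := (hy.1 : (y : G) ∈ MulAut.conj g • H)
      refine ⟨z, hz, ?_⟩
      have e : (a : G) * (y : G) * (a : G)⁻¹ = x := congrArg Subtype.val hyx
      have hzy' : g * z * g⁻¹ = (y : G) := hzy
      rw [← hzy'] at e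
      rw [← e]
      show (a : G) * g * z * ((a : G) * g)⁻¹ = (a : G) * (g * z * g⁻¹) * (a : G)⁻¹
      group

/-- Hall subgroups of a finite solvable group are conjugate. -/
theorem exists_conj_eq {π : Set ℕ} [Finite G] [Group.IsSolvable G] {H K : Subgroup G}
    (hH : IsPiHall π H) (hK : IsPiHall π K) : ∃ g : G, MulAut.conj g • H = K := by
  obtain ⟨g, hg⟩ := exists_conj_le hH hK.1
  exact ⟨g, (isPiHall_eq_of_le hK (isPiHall_conj hH g).1 hg).symm⟩

/-- Every `π`-subgroup of a finite solvable group lies in a Hall `π`-subgroup. -/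
theorem exists_isPiHall_ge {π : Set ℕ} [Finite G] [Group.IsSolvable G] {K : Subgroup G}
    (hK : ∀ p : ℕ, p.Prime → p ∣ Nat.card K → p ∈ π) :
    ∃ H : Subgroup G, IsPiHall π H ∧ K ≤ H := by
  obtain ⟨H, hH⟩ := exists_isPiHall (G := G) π
  obtain ⟨g, hg⟩ := exists_conj_le hH hK
  exact ⟨_, isPiHall_conj hH g, hg⟩

/-- Hall subgroups of a subgroup of a solvable group. -/
theorem exists_isPiHallOf (π : Set ℕ) [Finite G] (M : Subgroup G) [Group.IsSolvable M] :
    ∃ H : Subgroup G, IsPiHallOf π H M := by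
  obtain ⟨H, h1, h2⟩ := exists_isPiHall (G := M) π
  refine ⟨H.map M.subtype, Subgroup.map_subtype_le _, fun p hp hd => h1 p hp ?_,
    fun p hp hmem hd => h2 p hp hmem ?_⟩
  · rwa [Subgroup.card_subtype] at hd
  · rwa [Subgroup.relIndex, Subgroup.subgroupOf, Subgroup.comap_map_eq_self_of_injective
      M.subtype_injective] at hd

/-! ### The order form -/

/-- Given a coprime factorisation `|G| = m * n`, a subgroup has order `m` iff it is a Hall
subgroup for the prime divisors of `m`. -/
theorem isPiHall_iff_card_eq [Finite G] {m n : ℕ} (hG : Nat.card G = m * n) (hmn : m.Coprime n)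
    (H : Subgroup G) : IsPiHall {p | p ∣ m} H ↔ Nat.card H = m := by
  have hm : m ≠ 0 := by rintro rfl; rw [zero_mul] at hG; exact Nat.card_pos.ne' hG
  have hmul := H.card_mul_index
  constructor
  · intro h
    have h1 : (Nat.card H).Coprime n :=
      coprime_of_piGroup h.1 fun p hp hpm hpn => hp.not_dvd_one (hmn.gcd_eq_one ▸ Nat.dvd_gcd hpm hpn)
    have h2 : m.Coprime H.index :=
      coprime_of_piGroup (π := {p | p ∣ m}) (fun p _ hd => hd) h.2
    exact Nat.dvd_antisymm (h1.dvd_of_dvd_mul_right (hG ▸ Dvd.intro _ hmul))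
      (h2.dvd_of_dvd_mul_right (hmul.symm ▸ hG ▸ Dvd.intro _ rfl))
  · intro h
    refine ⟨fun p hp hd => by rw [h] at hd; exact hd, fun p hp hpm hd => ?_⟩
    rw [hG, h] at hmul
    rw [Nat.eq_of_mul_eq_mul_left (Nat.pos_of_ne_zero hm) hmul] at hd
    exact hp.not_dvd_one (hmn.gcd_eq_one ▸ Nat.dvd_gcd hpm hd)

end Cfsg.Agent.Lib.Hall
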