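import Mathlib.GroupTheory.Nilpotent
import Mathlib.Data.Nat.Factorization.Induction
import Cfsg.Agent.Lib.Hall.Basic

/-!
# Wielandt's criterion, Hall complement systems, Sylow systems

Namespace `Cfsg.Agent.Lib.Hall.Systems`.

* `isSolvable_of_factorizations`: `G = H₁H₂ = H₁H₃`, all solvable, coprime indices, then solvable.
* `exists_complementSystem`, `exists_sylowSystem`: systems in solvable groups.
* `exists_complementSystem_of_sylowSystem`: permuting Sylow subgroups give a complement system.
* `isSolvable_of_complementSystem`: Hall's converse, modulo Burnside's theorem given as hypothesis.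
-/

set_option autoImplicit false
set_option linter.style.haveILetI false

open scoped Pointwise
open Cfsg

namespace Cfsg.Agent.Lib.Hall.Systems

universe u

variable {G : Type u} [Group G]

/-- `|M : X ∩ M|` divides `|G : X|` for a normal subgroup `M`. -/
theorem relIndex_dvd_index_of_normal_right [Finite G] (X M : Subgroup G) [M.Normal] :
    X.relIndex M ∣ X.index := by
  have h1 : X.relIndex M = X.relIndex (X ⊔ M) := by
    have e1 := Subgroup.relIndex_sup_right (H := X) (K := M)
    have e2 := Subgroup.relIndex_mul_relIndex (X ⊓ M) X (X ⊔ M) inf_le_left le_sup_left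
    have e3 := Subgroup.relIndex_mul_relIndex (X ⊓ M) M (X ⊔ M) inf_le_right le_sup_right
    rw [Subgroup.inf_relIndex_left] at e2
    rw [Subgroup.inf_relIndex_right, e1] at e3
    refine Nat.eq_of_mul_eq_mul_left (Nat.pos_of_ne_zero ?_) (by rw [e2, ← e3, mul_comm])
    exact Subgroup.index_ne_zero_of_finite
  rw [h1]
  exact Dvd.intro _ (Subgroup.relIndex_mul_index le_sup_left)

/-- A normal `p`-subgroup lies in every subgroup of index prime to `p`. -/
theorem le_of_not_dvd_index [Finite G] {p : ℕ} [Fact p.Prime] {M : Subgroup G} [M.Normal]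
    (hM : IsPGroup p M) {X : Subgroup G} (hX : ¬ p ∣ X.index) : M ≤ X := by
  refine Subgroup.relIndex_eq_one.1 ?_
  obtain ⟨n, hn⟩ := hM.index (X.subgroupOf M)
  rcases n.eq_zero_or_pos with rfl | hpos
  · simpa using hn
  · exfalso
    refine hX (dvd_trans ?_ (relIndex_dvd_index_of_normal_right X M))
    rw [Subgroup.relIndex, hn]
    exact dvd_pow_self p hpos.ne'

/-- `G = HK` gives `|H : H ∩ K| = |G : K|`. -/
theorem relIndex_eq_index_of_mul [Finite G] {H K : Subgroup G}
    (h : ∀ g : G, ∃ x ∈ H, ∃ y ∈ K, g = x * y) : K.relIndex H = K.index := by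
  refine le_antisymm (Subgroup.relIndex_le_of_le_right le_top (by
    rw [Subgroup.relIndex_top_right]; exact Subgroup.index_ne_zero_of_finite) |>.trans_eq
      (Subgroup.relIndex_top_right K)) ?_
  refine Nat.card_le_card_of_surjective (α := H ⧸ K.subgroupOf H) (β := G ⧸ K)
    (Quotient.map' (fun x : H => (x : G)) fun a b hab => by
      rw [QuotientGroup.leftRel_apply] at hab ⊢
      exact hab) ?_
  intro q
  induction q using QuotientGroup.induction_on with
  | H g =>
    obtain ⟨x, hx, y, hy, rfl⟩ := h g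
    exact ⟨QuotientGroup.mk (⟨x, hx⟩ : H),
      (QuotientGroup.eq.2 (by simpa using hy) : ((x : G) : G ⧸ K) = ((x * y : G) : G ⧸ K))⟩

/-- Wielandt: `G = H₁H₂ = H₁H₃` with solvable factors and coprime indices of `H₂`, `H₃`. -/
theorem isSolvable_of_factorizations [Finite G] (H₁ H₂ H₃ : Subgroup G)
    (h₁ : Group.IsSolvable H₁) (h₂ : Group.IsSolvable H₂) (h₃ : Group.IsSolvable H₃)
    (h12 : ∀ g : G, ∃ x ∈ H₁, ∃ y ∈ H₂, g = x * y) (h13 : ∀ g : G, ∃ x ∈ H₁, ∃ y ∈ H₃, g = x * y)
    (hcop : H₂.index.Coprime H₃.index) : Group.IsSolvable G := by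
  suffices key : ∀ (n : ℕ) (G : Type u) [Group G] [Finite G], Nat.card G = n →
      ∀ H₁ H₂ H₃ : Subgroup G, Group.IsSolvable H₁ → Group.IsSolvable H₂ → Group.IsSolvable H₃ →
      (∀ g : G, ∃ x ∈ H₁, ∃ y ∈ H₂, g = x * y) → (∀ g : G, ∃ x ∈ H₁, ∃ y ∈ H₃, g = x * y) →
      H₂.index.Coprime H₃.index → Group.IsSolvable G from
    key _ G rfl H₁ H₂ H₃ h₁ h₂ h₃ h12 h13 hcop
  intro n
  induction n using Nat.strongRecOn with
  | ind n ih =>
    intro G _ _ hn H₁ H₂ H₃ h₁ h₂ h₃ h12 h13 hcop
    haveI := h₁
    by_cases hbot : H₁ = ⊥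
    · haveI := h₂
      refine Group.isSolvable_of_surjective (f := H₂.subtype) fun g => ?_
      obtain ⟨x, hx, y, hy, rfl⟩ := h12 g
      rw [hbot, Subgroup.mem_bot] at hx
      exact ⟨⟨y, hy⟩, by simp [hx]⟩
    haveI : Nontrivial H₁ := (Subgroup.nontrivial_iff_ne_bot H₁).2 hbot
    obtain ⟨p, M, hp, hMn, hMne, -, hMp⟩ := exists_normal_abelian_pgroup (G := H₁)
    haveI := hMn
    haveI : Fact p.Prime := ⟨hp⟩
    obtain ⟨K, hKs, hK, hM⟩ : ∃ K : Subgroup G, Group.IsSolvable K ∧
        (∀ g : G, ∃ x ∈ H₁, ∃ y ∈ K, g = x * y) ∧ M.map H₁.subtype ≤ K := by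
      have key : ∀ K : Subgroup G, (∀ g : G, ∃ x ∈ H₁, ∃ y ∈ K, g = x * y) → ¬ p ∣ K.index →
          M.map H₁.subtype ≤ K := fun K hK hp' =>
        Subgroup.map_le_iff_le_comap.2 (le_of_not_dvd_index (X := K.subgroupOf H₁) hMp (by
          rw [← Subgroup.relIndex, relIndex_eq_index_of_mul hK]; exact hp'))
      by_cases hd : p ∣ H₂.index
      · exact ⟨H₃, h₃, h13, key H₃ h13
          fun h => hp.not_dvd_one (hcop.gcd_eq_one ▸ Nat.dvd_gcd hd h)⟩
      · exact ⟨H₂, h₂, h12, key H₂ h12 hd⟩
    set N := Subgroup.normalClosure ((M.map H₁.subtype : Subgroup G) : Set G) with hN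
    have hNK : N ≤ K := by
      rw [hN, Subgroup.normalClosure, Subgroup.closure_le]
      intro z hz
      rw [Group.mem_conjugatesOfSet_iff] at hz
      obtain ⟨a, ha, hconj⟩ := hz
      obtain ⟨g, rfl⟩ := isConj_iff.1 hconj
      obtain ⟨x, hx, y, hy, hxy⟩ := hK g⁻¹
      obtain ⟨m, hm, rfl⟩ := ha
      have hm' : x⁻¹ * (m : G) * x ∈ M.map H₁.subtype :=
        ⟨(⟨x, hx⟩ : H₁)⁻¹ * m * ((⟨x, hx⟩ : H₁)⁻¹)⁻¹, hMn.conj_mem m hm _, by simp⟩
      rw [show g = y⁻¹ * x⁻¹ by rw [← mul_inv_rev, ← hxy, inv_inv], SetLike.mem_coe]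
      have := K.mul_mem (K.mul_mem (K.inv_mem hy) (hM hm')) hy
      simpa [mul_assoc] using this
    have hNne : N ≠ ⊥ := fun h => hMne ((Subgroup.map_eq_bot_iff_of_injective M
      H₁.subtype_injective).1 (le_bot_iff.1 (h ▸ Subgroup.subset_normalClosure)))
    haveI := hKs
    haveI : Group.IsSolvable N :=
      Group.isSolvable_of_isSolvable_injective (Subgroup.inclusion_injective hNK)
    haveI : N.Normal := Subgroup.normalClosure_normal
    set π := QuotientGroup.mk' N
    have hπ : Function.Surjective π := QuotientGroup.mk'_surjective N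
    have hsolv : ∀ H : Subgroup G, Group.IsSolvable H → Group.IsSolvable (H.map π) := fun H hH => by
      haveI := hH
      exact Group.isSolvable_of_surjective (f := π.subgroupMap H) (π.subgroupMap_surjective H)
    have hprod : ∀ H H' : Subgroup G, (∀ g : G, ∃ x ∈ H, ∃ y ∈ H', g = x * y) →
        ∀ g : G ⧸ N, ∃ x ∈ H.map π, ∃ y ∈ H'.map π, g = x * y := fun H H' h g => by
      obtain ⟨g, rfl⟩ := hπ g
      obtain ⟨x, hx, y, hy, rfl⟩ := h g
      exact ⟨π x, Subgroup.mem_map_of_mem π hx, π y, Subgroup.mem_map_of_mem π hy, map_mul π x y⟩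
    haveI : Group.IsSolvable (G ⧸ N) :=
      ih _ (hn ▸ card_quotient_lt hNne) (G ⧸ N) rfl (H₁.map π) (H₂.map π) (H₃.map π)
        (hsolv _ h₁) (hsolv _ h₂) (hsolv _ h₃) (hprod _ _ h12) (hprod _ _ h13)
        ((hcop.coprime_dvd_left (Subgroup.index_map_dvd H₂ hπ)).coprime_dvd_right
          (Subgroup.index_map_dvd H₃ hπ))
    exact Group.isSolvable_of_ker_le_range (f := N.subtype) (g := π) (by simp [π])

/-- Coprime indices give a factorisation and multiply on intersecting. -/
theorem factor_of_coprime_index [Finite G] {H K : Subgroup G} (h : H.index.Coprime K.index) :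
    (H ⊓ K).index = H.index * K.index ∧ ∀ g : G, ∃ x ∈ H, ∃ y ∈ K, g = x * y := by
  have hidx : (H ⊓ K).index = H.index * K.index :=
    le_antisymm Subgroup.index_inf_le (Nat.le_of_dvd
      (Nat.pos_of_ne_zero Subgroup.index_ne_zero_of_finite)
      (h.mul_dvd_of_dvd_of_dvd (Subgroup.index_dvd_of_le inf_le_left)
        (Subgroup.index_dvd_of_le inf_le_right)))
  refine ⟨hidx, fun g => ?_⟩
  have hmul := Subgroup.relIndex_mul_index (inf_le_left : H ⊓ K ≤ H)
  rw [hidx, Subgroup.inf_relIndex_left, mul_comm H.index] at hmul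
  have hrel := Nat.eq_of_mul_eq_mul_right (Nat.pos_of_ne_zero Subgroup.index_ne_zero_of_finite) hmul
  let f : H ⧸ K.subgroupOf H → G ⧸ K := Quotient.map' (fun x : H => (x : G)) fun a b hab => by
    rw [QuotientGroup.leftRel_apply] at hab ⊢
    exact hab
  have finj : Function.Injective f := by
    intro a b
    induction a using QuotientGroup.induction_on with
    | H a =>
      induction b using QuotientGroup.induction_on with
      | H b =>
        intro hab
        have h1 := QuotientGroup.eq.1 (show ((a : G) : G ⧸ K) = ((b : G) : G ⧸ K) from hab)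
        exact QuotientGroup.eq.2 h1
  obtain ⟨q, hq⟩ := ((Nat.bijective_iff_injective_and_card f).2 ⟨finj, hrel⟩).2 (g : G ⧸ K)
  induction q using QuotientGroup.induction_on with
  | H x =>
    exact ⟨x, x.2, (x : G)⁻¹ * g,
      QuotientGroup.eq.1 (show ((x : G) : G ⧸ K) = ((g : G) : G ⧸ K) from hq), by simp⟩

/-- A solvable group has Hall `p`-complements for every prime. -/
theorem exists_complementSystem [Finite G] [Group.IsSolvable G] :
    ∃ K : Nat.Primes → Subgroup G,
      ∀ p : Nat.Primes, (K p).index = (p : ℕ) ^ (Nat.card G).factorization p := by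
  refine Classical.axiom_of_choice (r := fun (p : Nat.Primes) (H : Subgroup G) =>
    H.index = (p : ℕ) ^ (Nat.card G).factorization p) fun p => ?_
  obtain ⟨H, hH⟩ := exists_isPiHall (G := G) {q | q ≠ (p : ℕ)}
  refine ⟨H, ?_⟩
  have hne : H.index ≠ 0 := Subgroup.index_ne_zero_of_finite
  have hp : ¬ (p : ℕ) ∣ Nat.card H := fun h => hH.1 p p.2 h rfl
  have hfac : H.index.factorization p = (Nat.card G).factorization p := by
    rw [← H.card_mul_index, Nat.factorization_mul Nat.card_pos.ne' hne, Finsupp.add_apply,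
      Nat.factorization_eq_zero_of_not_dvd hp, zero_add]
  have h : H.index = (p : ℕ) ^ H.index.primeFactorsList.length :=
    Nat.eq_prime_pow_of_unique_prime_dvd hne fun {q} hq hd => by
      by_contra hqp; exact hH.2 q hq hqp hd
  rw [← hfac, h, Nat.Prime.factorization_pow p.2, Finsupp.single_eq_same]

/-- The intersection of `p`-complements over a set of primes has index the product of theirs. -/
theorem index_inf_complements [Finite G] {K : Nat.Primes → Subgroup G}
    (hK : ∀ p : Nat.Primes, (K p).index = (p : ℕ) ^ (Nat.card G).factorization p)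
    (T : Finset Nat.Primes) :
    (T.inf K).index = ∏ p ∈ T, (p : ℕ) ^ (Nat.card G).factorization p := by
  induction T using Finset.induction_on with
  | empty => simp
  | insert a T ha ih =>
    have hcop : (K a).index.Coprime (T.inf K).index := by
      rw [hK, ih]
      refine Nat.Coprime.prod_right fun b hb => Nat.Coprime.pow _ _ ?_
      exact (Nat.coprime_primes a.2 b.2).2 fun h => ha (Subtype.ext h ▸ hb)
    rw [Finset.inf_insert, Finset.prod_insert ha, (factor_of_coprime_index hcop).1, hK, ih]

/-- Two subgroups of coprime order inside a subgroup of the product order give it as set product. -/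
theorem mul_eq_of_card [Finite G] {A B D : Subgroup G} (hA : A ≤ D) (hB : B ≤ D)
    (hcop : (Nat.card A).Coprime (Nat.card B)) (hcard : Nat.card A * Nat.card B = Nat.card D) :
    (A : Set G) * (B : Set G) = (D : Set G) := by
  have hsub : (A : Set G) * (B : Set G) ⊆ (D : Set G) := by
    rintro x ⟨a, ha, b, hb, rfl⟩
    exact mul_mem (hA ha) (hB hb)
  refine Set.eq_of_subset_of_ncard_le hsub ?_ (Set.toFinite _)
  rw [← Nat.card_coe_set_eq, ← Nat.card_coe_set_eq]
  refine (le_of_eq (hcard.symm.trans (Nat.card_prod A B).symm)).trans ?_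
  refine Nat.card_le_card_of_injective
    (fun x : A × B => (⟨x.1 * x.2, Set.mul_mem_mul x.1.2 x.2.2⟩ :
      ((A : Set G) * (B : Set G) : Set G))) fun x y h => ?_
  exact Subgroup.mul_injective_of_disjoint (disjoint_iff.2 (inf_eq_bot_of_coprime hcop))
    (congrArg Subtype.val h)

/-- The order is the product of its prime power parts, indexed by `Nat.Primes`. -/
theorem prod_primeParts [Finite G] :
    ∏ x ∈ ((Nat.card G).primeFactors.subtype Nat.Prime : Finset Nat.Primes),
      (x : ℕ) ^ (Nat.card G).factorization x = Nat.card G := by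
  refine Eq.trans ?_ (Nat.prod_factorization_pow_eq_self (Nat.card_pos (α := G)).ne')
  rw [Finsupp.prod, Nat.support_factorization]
  refine Finset.prod_nbij (fun x : Nat.Primes => (x : ℕ)) ?_ ?_ ?_ ?_
  · exact fun x hx => Finset.mem_subtype.1 hx
  · exact fun x _ y _ h => Subtype.ext h
  · exact fun r hr => ⟨⟨r, Nat.prime_of_mem_primeFactors hr⟩, Finset.mem_subtype.2 hr, rfl⟩
  · exact fun x _ => rfl

/-- A complement system yields a Sylow system. -/
theorem exists_sylowSystem [Finite G] {K : Nat.Primes → Subgroup G}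
    (hK : ∀ p : Nat.Primes, (K p).index = (p : ℕ) ^ (Nat.card G).factorization p) :
    ∃ S : (p : Nat.Primes) → Sylow (p : ℕ) G,
      ∀ p q : Nat.Primes, (S p : Set G) * (S q : Set G) = (S q : Set G) * (S p : Set G) := by
  classical
  let π : Finset Nat.Primes := (Nat.card G).primeFactors.subtype _
  have hprod : ∀ T : Finset Nat.Primes,
      (∏ x ∈ π \ T, (x : ℕ) ^ (Nat.card G).factorization x) *
        ∏ x ∈ T, (x : ℕ) ^ (Nat.card G).factorization x = Nat.card G := by
    intro T
    have hpp : ∀ x : Nat.Primes, x ∉ π → (x : ℕ) ^ (Nat.card G).factorization x = 1 := by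
      intro x hx
      have hx' : (x : ℕ) ∉ (Nat.card G).primeFactors := fun h => hx (Finset.mem_subtype.2 h)
      rw [← Nat.support_factorization, Finsupp.notMem_support_iff] at hx'
      rw [hx', pow_zero]
    rw [← Finset.prod_union Finset.sdiff_disjoint, Finset.sdiff_union_self_eq_union,
      ← Finset.prod_subset Finset.subset_union_left fun x _ hx => hpp x hx]
    exact prod_primeParts
  have hcard : ∀ T : Finset Nat.Primes, Nat.card ((π \ T).inf K : Subgroup G) =
      ∏ x ∈ T, (x : ℕ) ^ (Nat.card G).factorization x := by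
    intro T
    have h := ((π \ T).inf K).index_mul_card
    rw [index_inf_complements hK] at h
    refine Nat.eq_of_mul_eq_mul_left
      (Finset.prod_pos (f := fun x : Nat.Primes => (x : ℕ) ^ (Nat.card G).factorization x) (s := π \ T)
        fun x _ => Nat.pow_pos x.2.pos) ?_
    rw [h, hprod]
  have hcard1 : ∀ p : Nat.Primes, Nat.card ((π \ {p}).inf K : Subgroup G) =
      (p : ℕ) ^ (Nat.card G).factorization p := fun p => by rw [hcard, Finset.prod_singleton]
  refine ⟨fun p => haveI : Fact (p : ℕ).Prime := ⟨p.2⟩; Sylow.ofCard _ (hcard1 p), fun p q => ?_⟩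
  by_cases hpq : p = q
  · subst hpq; rfl
  show (((π \ {p}).inf K : Subgroup G) : Set G) * (((π \ {q}).inf K : Subgroup G) : Set G) =
    (((π \ {q}).inf K : Subgroup G) : Set G) * (((π \ {p}).inf K : Subgroup G) : Set G)
  have hcop : (Nat.card ((π \ {p}).inf K : Subgroup G)).Coprime
      (Nat.card ((π \ {q}).inf K : Subgroup G)) := by
    rw [hcard1, hcard1]
    exact Nat.Coprime.pow _ _ ((Nat.coprime_primes p.2 q.2).2 fun h => hpq (Subtype.ext h))
  have hp : (π \ {p}).inf K ≤ (π \ {p, q}).inf K :=
    Finset.inf_mono (Finset.sdiff_subset_sdiff subset_rfl (by simp))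
  have hq : (π \ {q}).inf K ≤ (π \ {p, q}).inf K :=
    Finset.inf_mono (Finset.sdiff_subset_sdiff subset_rfl (by simp))
  have hD : Nat.card ((π \ {p}).inf K : Subgroup G) * Nat.card ((π \ {q}).inf K : Subgroup G) =
      Nat.card ((π \ {p, q}).inf K : Subgroup G) := by
    rw [hcard1, hcard1, hcard {p, q}, Finset.prod_pair hpq]
  rw [mul_eq_of_card hp hq hcop hD, mul_eq_of_card hq hp hcop.symm ((mul_comm _ _).trans hD)]

/-- The product of two permuting subgroups, as a subgroup. -/
def prodSubgroup (A B : Subgroup G) (h : (A : Set G) * (B : Set G) = (B : Set G) * (A : Set G)) :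
    Subgroup G where
  carrier := (A : Set G) * (B : Set G)
  one_mem' := ⟨1, one_mem A, 1, one_mem B, one_mul 1⟩
  mul_mem' := by
    rintro x y hx hy
    have h1 : x * y ∈ ((A : Set G) * (B : Set G)) * ((A : Set G) * (B : Set G)) :=
      Set.mul_mem_mul hx hy
    rwa [mul_assoc, ← mul_assoc (B : Set G), ← h, mul_assoc, coe_mul_coe, ← mul_assoc,
      coe_mul_coe] at h1
  inv_mem' := by
    rintro x ⟨a, ha, b, hb, rfl⟩
    rw [h, mul_inv_rev]
    exact Set.mul_mem_mul (inv_mem hb) (inv_mem ha)

/-- Permuting Sylow subgroups, one per prime, yield a complement system. -/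
theorem exists_complementSystem_of_sylowSystem [Finite G]
    (S : (p : Nat.Primes) → Sylow (p : ℕ) G)
    (hS : ∀ p q : Nat.Primes, (S p : Set G) * (S q : Set G) = (S q : Set G) * (S p : Set G)) :
    ∃ K : Nat.Primes → Subgroup G,
      ∀ p : Nat.Primes, (K p).index = (p : ℕ) ^ (Nat.card G).factorization p := by
  classical
  have key : ∀ T : Finset Nat.Primes, ∃ U : Subgroup G,
      Nat.card U = ∏ p ∈ T, (p : ℕ) ^ (Nat.card G).factorization p ∧
        ∀ a : Nat.Primes, (S a : Set G) * (U : Set G) = (U : Set G) * (S a : Set G) := by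
    intro T
    induction T using Finset.induction_on with
    | empty => exact ⟨⊥, by simp, fun a => by simp [Subgroup.coe_bot]⟩
    | insert a T ha ih =>
      obtain ⟨U, hU, hperm⟩ := ih
      refine ⟨prodSubgroup (S a) U (hperm a), ?_, fun b => ?_⟩
      · haveI : Fact (a : ℕ).Prime := ⟨a.2⟩
        have hcop : (Nat.card (S a : Subgroup G)).Coprime (Nat.card U) := by
          rw [hU, Sylow.card_eq_multiplicity]
          refine Nat.Coprime.prod_right fun b hb => Nat.Coprime.pow _ _ ?_
          exact (Nat.coprime_primes a.2 b.2).2 fun h => ha (Subtype.ext h ▸ hb)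
        rw [Finset.prod_insert ha, ← hU, ← Sylow.card_eq_multiplicity (S a), ← Nat.card_prod]
        refine (Nat.card_congr (Equiv.ofBijective (fun x : ↥(S a : Subgroup G) × ↥U =>
          (⟨x.1.1 * x.2.1, Set.mul_mem_mul x.1.2 x.2.2⟩ : prodSubgroup _ _ (hperm a))) ⟨?_, ?_⟩)).symm
        · exact fun x y h => Subgroup.mul_injective_of_disjoint
            (disjoint_iff.2 (inf_eq_bot_of_coprime hcop)) (congrArg Subtype.val h)
        · rintro ⟨x, a', ha', b', hb', rfl⟩
          exact ⟨(⟨a', ha'⟩, ⟨b', hb'⟩), rfl⟩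
      · show (S b : Set G) * ((S a : Set G) * (U : Set G)) =
          ((S a : Set G) * (U : Set G)) * (S b : Set G)
        rw [← mul_assoc, hS b a, mul_assoc, hperm b, mul_assoc]
  refine Classical.axiom_of_choice (r := fun (p : Nat.Primes) (H : Subgroup G) =>
    H.index = (p : ℕ) ^ (Nat.card G).factorization p) fun p => ?_
  let π : Finset Nat.Primes := (Nat.card G).primeFactors.subtype _
  obtain ⟨U, hU, -⟩ := key (π.erase p)
  refine ⟨U, Nat.eq_of_mul_eq_mul_right (Nat.card_pos (α := U)) ?_⟩
  rw [U.index_mul_card, hU]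
  have hpi : ∏ x ∈ π, (x : ℕ) ^ (Nat.card G).factorization x = Nat.card G := prod_primeParts
  by_cases hp : p ∈ π
  · rw [Finset.mul_prod_erase π (fun x : Nat.Primes => (x : ℕ) ^ (Nat.card G).factorization x) hp,
      hpi]
  · have hx' : (p : ℕ) ∉ (Nat.card G).primeFactors := fun h => hp (Finset.mem_subtype.2 h)
    rw [← Nat.support_factorization, Finsupp.notMem_support_iff] at hx'
    rw [Finset.erase_eq_of_notMem hp, hpi, hx', pow_zero, one_mul]

/-- Hall's converse, with Burnside's two-prime theorem as a hypothesis. -/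
theorem isSolvable_of_complementSystem
    (hB : ∀ (H : Type u) [Group H] [Finite H],
      (Nat.card H).primeFactors.card ≤ 2 → Group.IsSolvable H)
    [Finite G] (K : Nat.Primes → Subgroup G)
    (hK : ∀ p : Nat.Primes, (K p).index = (p : ℕ) ^ (Nat.card G).factorization p) :
    Group.IsSolvable G := by
  suffices key : ∀ (n : ℕ) (G : Type u) [Group G] [Finite G], Nat.card G = n →
      ∀ K : Nat.Primes → Subgroup G,
      (∀ p : Nat.Primes, (K p).index = (p : ℕ) ^ (Nat.card G).factorization p) →
      Group.IsSolvable G from key _ G rfl K hK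
  intro n
  induction n using Nat.strongRecOn with
  | ind n ih =>
    intro G _ _ hn K hK
    by_cases h2 : (Nat.card G).primeFactors.card ≤ 2
    · exact hB G h2
    obtain ⟨a, ha, b, hb, c, hc, hab, hac, hbc⟩ := Finset.two_lt_card.1 (not_le.1 h2)
    have hfac : ∀ r : Nat.Primes, (Nat.card G).factorization r =
        (K r).index.factorization r := fun r => by
      rw [hK r, Nat.Prime.factorization_pow r.2, Finsupp.single_eq_same]
    have hsol : ∀ r : Nat.Primes, (r : ℕ) ∈ (Nat.card G).primeFactors →
        Group.IsSolvable (K r) := by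
      intro r hr
      have hlt : Nat.card (K r) < n := by
        rw [← hn, ← (K r).card_mul_index]
        refine lt_mul_of_one_lt_right Nat.card_pos (lt_of_lt_of_le r.2.one_lt ?_)
        rw [hK r]
        refine Nat.le_self_pow ?_ _
        rw [← Nat.support_factorization, Finsupp.mem_support_iff] at hr
        exact hr
      refine ih _ hlt (K r) rfl (fun q => if q = r then ⊤ else (K q).subgroupOf (K r)) fun q => ?_
      have hsum := congrArg (fun m => m.factorization (q : ℕ)) (K r).card_mul_index
      simp only [Nat.factorization_mul (Nat.card_pos (α := K r)).ne'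
        (Subgroup.index_ne_zero_of_finite (H := K r)), Finsupp.add_apply] at hsum
      by_cases hqr : q = r
      · rw [if_pos hqr, Subgroup.index_top]
        have h0 : (Nat.card (K r)).factorization q = 0 := by
          have h3 : (K r).index.factorization q = (Nat.card G).factorization q := by
            rw [hqr, ← hfac r]
          omega
        rw [h0, pow_zero]
      · rw [if_neg hqr]
        have hne : (q : ℕ) ≠ r := fun h => hqr (Subtype.ext h)
        have hcop : (K q).index.Coprime (K r).index := by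
          rw [hK, hK]; exact Nat.Coprime.pow _ _ ((Nat.coprime_primes q.2 r.2).2 hne)
        have h1 : (K q).relIndex (K r) = (K q).index := by
          have h := Subgroup.relIndex_mul_index (inf_le_right : K q ⊓ K r ≤ K r)
          rw [(factor_of_coprime_index hcop).1, Subgroup.inf_relIndex_right] at h
          exact Nat.eq_of_mul_eq_mul_right
            (Nat.pos_of_ne_zero Subgroup.index_ne_zero_of_finite) h
        show (K q).relIndex (K r) = _
        rw [h1, hK q]
        have h4 : (K r).index.factorization q = 0 := by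
          rw [hK r, Nat.Prime.factorization_pow r.2, Finsupp.single_eq_of_ne hne]
        congr 1
        omega
    let A : Nat.Primes := ⟨a, Nat.prime_of_mem_primeFactors ha⟩
    let B : Nat.Primes := ⟨b, Nat.prime_of_mem_primeFactors hb⟩
    let C : Nat.Primes := ⟨c, Nat.prime_of_mem_primeFactors hc⟩
    have hcop : ∀ r s : Nat.Primes, (r : ℕ) ≠ s → (K r).index.Coprime (K s).index :=
      fun r s h => by rw [hK, hK]; exact Nat.Coprime.pow _ _ ((Nat.coprime_primes r.2 s.2).2 h)
    exact isSolvable_of_factorizations (K A) (K B) (K C) (hsol A ha) (hsol B hb) (hsol C hc)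
      (factor_of_coprime_index (hcop A B hab)).2 (factor_of_coprime_index (hcop A C hac)).2
      (hcop B C hbc)

end Cfsg.Agent.Lib.Hall.Systems
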