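import Cfsg.Prelude.Def_SolvableStructure
import Mathlib.GroupTheory.Nilpotent
import Cfsg.Agent.Lib.Hall.Systems

/-!
# Conjugacy of Hall complement systems, system normalizers

Namespace `Cfsg.Agent.Lib.Hall.SystemNormalizer`.

* `isComplementSystem_iff`: members are exactly the Hall `{q | q ≠ p}`-subgroups.
* `exists_conj_system`: complement systems are conjugate.
* `systemNormalizer_isNilpotent`, `systemNormalizer_map`, `normalClosure_systemNormalizer`,
  `le_sup_systemNormalizer_of_central`, `inf_systemNormalizer_le_of_chief`.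
-/

set_option autoImplicit false
set_option linter.style.haveILetI false

open scoped Pointwise commutatorElement
open Cfsg

namespace Cfsg.Agent.Lib.Hall.SystemNormalizer

universe u v

variable {G : Type u} [Group G]

/-- A subgroup has `p`-power index equal to the full `p`-part iff it is a Hall `p'`-subgroup. -/
theorem index_eq_pow_iff [Finite G] {p : ℕ} (hp : p.Prime) (H : Subgroup G) :
    H.index = p ^ (Nat.card G).factorization p ↔ IsPiHall {q | q ≠ p} H := by
  have hne : H.index ≠ 0 := Subgroup.index_ne_zero_of_finite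
  have hsum := congrArg (fun m => m.factorization p) H.card_mul_index
  simp only [Nat.factorization_mul (Nat.card_pos (α := H)).ne' hne, Finsupp.add_apply] at hsum
  constructor
  · intro h
    refine ⟨fun q hq hd hqp => ?_, fun q hq hmem hd => ?_⟩
    · rw [h, Nat.Prime.factorization_pow hp, Finsupp.single_eq_same] at hsum
      have := Nat.Prime.factorization_pos_of_dvd hq (Nat.card_pos (α := H)).ne' hd
      rw [hqp] at this
      omega
    · rw [h] at hd
      exact hmem ((Nat.prime_dvd_prime_iff_eq hq hp).1 (hq.dvd_of_dvd_pow hd))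
  · intro h
    have h0 : (Nat.card H).factorization p = 0 :=
      Nat.factorization_eq_zero_of_not_dvd fun hd => h.1 p hp hd rfl
    have h1 : H.index = p ^ H.index.primeFactorsList.length :=
      Nat.eq_prime_pow_of_unique_prime_dvd hne fun {q} hq hd => by
        by_contra hqp; exact h.2 q hq hqp hd
    rw [h0, zero_add, h1, Nat.Prime.factorization_pow hp, Finsupp.single_eq_same] at hsum
    rw [h1, hsum]

theorem isComplementSystem_iff [Finite G] {K : Nat.Primes → Subgroup G} :
    IsComplementSystem K ↔ ∀ p : Nat.Primes, IsPiHall {q | q ≠ (p : ℕ)} (K p) :=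
  forall_congr' fun p => index_eq_pow_iff p.2 (K p)

theorem eq_top_of_not_dvd [Finite G] {K : Nat.Primes → Subgroup G} (hK : IsComplementSystem K)
    {p : Nat.Primes} (hp : ¬ (p : ℕ) ∣ Nat.card G) : K p = ⊤ := by
  rw [← Subgroup.index_eq_one, hK p, Nat.factorization_eq_zero_of_not_dvd hp, pow_zero]

theorem isComplementSystem_conj [Finite G] {K : Nat.Primes → Subgroup G}
    (hK : IsComplementSystem K) (g : G) : IsComplementSystem fun p => MulAut.conj g • K p :=
  fun p => (index_conj_smul _ g).trans (hK p)

theorem isComplementSystem_map {G' : Type v} [Group G'] [Finite G] [Finite G']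
    {K : Nat.Primes → Subgroup G} (hK : IsComplementSystem K) (f : G →* G')
    (hf : Function.Surjective f) : IsComplementSystem fun p => (K p).map f :=
  isComplementSystem_iff.2 fun p => isPiHall_map (isComplementSystem_iff.1 hK p) f hf

theorem conj_smul_eq_self {g : G} {H : Subgroup G} (hg : g ∈ H) : MulAut.conj g • H = H := by
  ext x
  rw [Subgroup.mem_pointwise_smul_iff_inv_smul_mem]
  simp only [MulAut.smul_def, MulAut.conj_inv_apply]
  rw [H.mul_mem_cancel_right hg, H.mul_mem_cancel_left (H.inv_mem hg)]

theorem conj_smul_le_of_normal {g : G} (N : Subgroup G) [hN : N.Normal] :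
    MulAut.conj g • N = N := Subgroup.Normal.conj_smul_eq_self g N

theorem mem_normalizer_iff_conj_smul {g : G} {H : Subgroup G} :
    g ∈ Subgroup.normalizer (H : Set G) ↔ MulAut.conj g • H = H := by
  constructor
  · intro hg
    ext x
    rw [Subgroup.mem_pointwise_smul_iff_inv_smul_mem]
    simp only [MulAut.smul_def, MulAut.conj_inv_apply]
    rw [(Subgroup.mem_normalizer_iff.1 (inv_mem hg)) x, inv_inv]
  · intro h
    rw [Subgroup.mem_normalizer_iff]
    intro x
    conv_rhs => rw [← h]
    rw [Subgroup.mem_pointwise_smul_iff_inv_smul_mem]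
    simp [MulAut.smul_def, mul_assoc]

theorem mem_systemNormalizer_iff {K : Nat.Primes → Subgroup G} {g : G} :
    g ∈ systemNormalizer K ↔ ∀ p : Nat.Primes, MulAut.conj g • K p = K p := by
  simp only [systemNormalizer, Subgroup.mem_iInf, mem_normalizer_iff_conj_smul]

theorem mem_systemNormalizer_of_primeFactors [Finite G] {K : Nat.Primes → Subgroup G}
    (hK : IsComplementSystem K) {g : G}
    (h : ∀ p ∈ (Nat.card G).primeFactors.subtype Nat.Prime, MulAut.conj g • K p = K p) :
    g ∈ systemNormalizer K := by
  rw [mem_systemNormalizer_iff]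
  intro p
  by_cases hp : (p : ℕ) ∣ Nat.card G
  · exact h p (Finset.mem_subtype.2 (Nat.mem_primeFactors.2 ⟨p.2, hp, Nat.card_pos.ne'⟩))
  · rw [eq_top_of_not_dvd hK hp]
    exact conj_smul_le_of_normal ⊤

theorem coprime_index_inf [Finite G] {K : Nat.Primes → Subgroup G} (hK : IsComplementSystem K)
    {T : Finset Nat.Primes} {a : Nat.Primes} (ha : a ∉ T) :
    (T.inf K).index.Coprime (K a).index := by
  rw [Systems.index_inf_complements hK, hK a]
  refine Nat.Coprime.prod_left fun b hb => Nat.Coprime.pow _ _ ?_
  exact (Nat.coprime_primes b.2 a.2).2 fun h => ha (Subtype.ext h ▸ hb)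

/-- Hall complement systems of a finite solvable group are conjugate. -/
theorem exists_conj_system [Finite G] [Group.IsSolvable G] {K L : Nat.Primes → Subgroup G}
    (hK : IsComplementSystem K) (hL : IsComplementSystem L) :
    ∃ g : G, ∀ p : Nat.Primes, MulAut.conj g • K p = L p := by
  classical
  have key : ∀ T : Finset Nat.Primes, ∃ g : G, ∀ p ∈ T, MulAut.conj g • K p = L p := by
    intro T
    induction T using Finset.induction_on with
    | empty => exact ⟨1, fun p hp => absurd hp (Finset.notMem_empty p)⟩
    | insert a T ha ih =>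
      obtain ⟨g, hg⟩ := ih
      obtain ⟨h, hh⟩ := exists_conj_eq (isPiHall_conj (isComplementSystem_iff.1 hK a) g)
        (isComplementSystem_iff.1 hL a)
      obtain ⟨x, hx, y, hy, hxy⟩ := (Systems.factor_of_coprime_index (coprime_index_inf hL ha)).2 h⁻¹
      refine ⟨x⁻¹ * g, fun p hp => ?_⟩
      rw [map_mul, mul_smul]
      rcases Finset.mem_insert.1 hp with rfl | hp
      · have h1 : MulAut.conj g • K p = MulAut.conj h⁻¹ • L p := by
          rw [← hh, ← mul_smul, ← map_mul, inv_mul_cancel, map_one, one_smul]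
        rw [h1, ← mul_smul, ← map_mul, hxy, inv_mul_cancel_left]
        exact conj_smul_eq_self hy
      · rw [hg p hp]
        exact conj_smul_eq_self ((L p).inv_mem ((Finset.inf_le hp : T.inf L ≤ L p) hx))
  obtain ⟨g, hg⟩ := key ((Nat.card G).primeFactors.subtype Nat.Prime)
  refine ⟨g, fun p => ?_⟩
  by_cases hp : (p : ℕ) ∣ Nat.card G
  · exact hg p (Finset.mem_subtype.2 (Nat.mem_primeFactors.2 ⟨p.2, hp, Nat.card_pos.ne'⟩))
  · rw [eq_top_of_not_dvd hK hp, eq_top_of_not_dvd hL hp]
    exact conj_smul_le_of_normal ⊤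

/-- System normalizers are nilpotent. -/
theorem systemNormalizer_isNilpotent [Finite G] {K : Nat.Primes → Subgroup G}
    (hK : IsComplementSystem K) : Group.IsNilpotent (systemNormalizer K) := by
  classical
  set D := systemNormalizer K with hD
  let ι := {p : Nat.Primes // p ∈ (Nat.card G).primeFactors.subtype Nat.Prime}
  haveI : Finite ι := Finite.of_fintype {x // x ∈ (Nat.card G).primeFactors.subtype Nat.Prime}
  have hle : ∀ p : Nat.Primes, D ≤ Subgroup.normalizer (K p : Set G) := fun p => iInf_le _ p
  haveI hn : ∀ i : ι, ((K i.1).subgroupOf D).Normal := fun i =>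
    Subgroup.normal_subgroupOf_of_le_normalizer (hle i.1)
  have hpg : ∀ i : ι, IsPGroup (i.1 : ℕ) (D ⧸ (K i.1).subgroupOf D) := by
    intro i
    haveI : Fact (i.1 : ℕ).Prime := ⟨i.1.2⟩
    have h1 : (K i.1).relIndex D ∣ (K i.1).index := by
      haveI : ((K i.1).subgroupOf (Subgroup.normalizer (K i.1 : Set G))).Normal :=
        Subgroup.normal_in_normalizer
      have h2 : ((K i.1).subgroupOf (Subgroup.normalizer (K i.1 : Set G))).relIndex
          (D.subgroupOf (Subgroup.normalizer (K i.1 : Set G))) ∣
          ((K i.1).subgroupOf (Subgroup.normalizer (K i.1 : Set G))).index :=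
        Subgroup.relIndex_dvd_index_of_normal _ _
      rw [Subgroup.relIndex_subgroupOf (hle i.1)] at h2
      exact h2.trans (Dvd.intro _ (Subgroup.relIndex_mul_index (Subgroup.le_normalizer)))
    rw [hK i.1] at h1
    obtain ⟨m, -, hm⟩ := (Nat.dvd_prime_pow i.1.2).1 h1
    exact IsPGroup.of_card (n := m) hm
  haveI : ∀ i : ι, Group.IsNilpotent (D ⧸ (K i.1).subgroupOf D) := fun i => by
    haveI : Fact (i.1 : ℕ).Prime := ⟨i.1.2⟩
    exact (hpg i).isNilpotent
  let f : D →* ∀ i : ι, D ⧸ (K i.1).subgroupOf D :=
    MonoidHom.pi fun i : ι => QuotientGroup.mk' ((K i.1).subgroupOf D)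
  have hf : Function.Injective f := by
    rw [injective_iff_map_eq_one]
    intro x hx
    have hmem : ∀ i : ι, (x : G) ∈ K i.1 := fun i =>
      (QuotientGroup.eq_one_iff x).1 (congrFun hx i)
    by_contra hne
    obtain ⟨q, hq, hd⟩ := Nat.exists_prime_and_dvd (n := orderOf (x : G))
      fun h => hne (Subtype.ext (orderOf_eq_one_iff.1 h))
    have hqG : q ∣ Nat.card G := hd.trans (orderOf_dvd_natCard _)
    let i : ι := ⟨⟨q, hq⟩, Finset.mem_subtype.2 (Nat.mem_primeFactors.2 ⟨hq, hqG, Nat.card_pos.ne'⟩)⟩
    refine (isComplementSystem_iff.1 hK i.1).1 q hq (hd.trans ?_) rfl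
    exact (Subgroup.orderOf_mk _ (hmem i)).symm ▸
      orderOf_dvd_natCard (⟨(x : G), hmem i⟩ : K i.1)
  haveI : Group.IsNilpotent (∀ i : ι, D ⧸ (K i.1).subgroupOf D) := inferInstance
  haveI : Group.IsNilpotent f.range := Subgroup.isNilpotent f.range
  exact Group.nilpotent_of_mulEquiv (MonoidHom.ofInjective hf).symm

theorem map_conj_smul {G' : Type v} [Group G'] (f : G →* G') (g : G) (H : Subgroup G) :
    (MulAut.conj g • H).map f = MulAut.conj (f g) • H.map f := by
  show (H.map (MulAut.conj g).toMonoidHom).map f = (H.map f).map (MulAut.conj (f g)).toMonoidHom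
  rw [Subgroup.map_map, Subgroup.map_map]
  congr 1
  ext x
  simp

/-- System normalizers commute with quotients. -/
theorem systemNormalizer_map [Finite G] [Group.IsSolvable G] {K : Nat.Primes → Subgroup G}
    (hK : IsComplementSystem K) (N : Subgroup G) [N.Normal] :
    systemNormalizer (fun p => (K p).map (QuotientGroup.mk' N)) =
      (systemNormalizer K).map (QuotientGroup.mk' N) := by
  classical
  set π := QuotientGroup.mk' N with hπ
  refine le_antisymm ?_ ?_
  · intro y hy
    obtain ⟨x, rfl⟩ := QuotientGroup.mk'_surjective N y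
    rw [mem_systemNormalizer_iff] at hy
    have hKN : ∀ p, MulAut.conj x • (K p ⊔ N) = K p ⊔ N := fun p => by
      rw [Subgroup.smul_sup, conj_smul_le_of_normal N]
      have h2 := congrArg (Subgroup.comap π) (hy p)
      rwa [← map_conj_smul, Subgroup.comap_map_eq, Subgroup.comap_map_eq, hπ,
        QuotientGroup.ker_mk'] at h2
    suffices key : ∀ T : Finset Nat.Primes, ∃ n ∈ N, ∀ p ∈ T, MulAut.conj (n * x) • K p = K p by
      obtain ⟨n, hn, hT⟩ := key ((Nat.card G).primeFactors.subtype Nat.Prime)
      refine ⟨n * x, mem_systemNormalizer_of_primeFactors hK hT, ?_⟩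
      rw [map_mul]
      simp [π, (QuotientGroup.eq_one_iff n).2 hn]
    intro T
    induction T using Finset.induction_on with
    | empty => exact ⟨1, one_mem N, fun p hp => absurd hp (Finset.notMem_empty p)⟩
    | insert a T ha ih =>
      obtain ⟨n, hn, hT⟩ := ih
      set K' := MulAut.conj (n * x) • K a with hK'
      set L := K a ⊔ N with hL
      have hK'L : K' ≤ L := by
        have h1 : MulAut.conj (n * x) • L = L := by
          rw [map_mul, mul_smul, hKN a]
          exact conj_smul_eq_self (Subgroup.mem_sup_right hn)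
        rw [← h1]
        exact Subgroup.pointwise_smul_le_pointwise_smul_iff.2 le_sup_left
      have hhall : ∀ H : Subgroup G, IsPiHall {q | q ≠ (a : ℕ)} H → H ≤ L →
          IsPiHall {q | q ≠ (a : ℕ)} (H.subgroupOf L) := fun H hH hle =>
        ⟨fun q hq hd => hH.1 q hq (hd.trans (dvd_of_eq
          (Nat.card_congr (Subgroup.subgroupOfEquivOfLe hle).toEquiv))),
        fun q hq hmem hd => hH.2 q hq hmem
          (hd.trans (Dvd.intro _ (Subgroup.relIndex_mul_index hle)))⟩
      obtain ⟨l, hl⟩ := exists_conj_eq (hhall _ (isComplementSystem_iff.1 hK a) le_sup_left)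
        (hhall K' (isPiHall_conj (isComplementSystem_iff.1 hK a) _) hK'L)
      have hl' : MulAut.conj (l : G) • K a = K' := by
        have h2 := congrArg (Subgroup.map L.subtype) hl
        rwa [map_conj_smul, Subgroup.map_subgroupOf_eq_of_le le_sup_left,
          Subgroup.map_subgroupOf_eq_of_le hK'L] at h2
      obtain ⟨m, hm, k, hk, hmk⟩ := Subgroup.mem_sup_of_normal_left.1
        (show (l : G) ∈ N ⊔ K a by rw [sup_comm]; exact l.2)
      rw [← hmk, map_mul, mul_smul, conj_smul_eq_self hk] at hl'
      have hcop : ((T.inf K).subgroupOf N).index.Coprime ((K a).subgroupOf N).index :=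
        Nat.Coprime.of_dvd (Systems.relIndex_dvd_index_of_normal_right (T.inf K) N)
          (Systems.relIndex_dvd_index_of_normal_right (K a) N) (coprime_index_inf hK ha)
      obtain ⟨d, hd, e, he, hde⟩ := (Systems.factor_of_coprime_index hcop).2 ⟨m, hm⟩
      have hde' : m = (d : G) * (e : G) := congrArg Subtype.val hde
      rw [hde', map_mul, mul_smul, conj_smul_eq_self (g := (e : G)) he] at hl'
      refine ⟨(d : G)⁻¹ * n, N.mul_mem (N.inv_mem d.2) hn, fun p hp => ?_⟩
      rw [mul_assoc, map_mul, mul_smul]
      rcases Finset.mem_insert.1 hp with rfl | hp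
      · rw [← hK', ← hl', ← mul_smul, ← map_mul, inv_mul_cancel, map_one, one_smul]
      · rw [hT p hp]
        exact conj_smul_eq_self ((K p).inv_mem ((Finset.inf_le hp : T.inf K ≤ K p) hd))
  · rintro _ ⟨x, hx, rfl⟩
    rw [mem_systemNormalizer_iff]
    intro p
    show MulAut.conj (π x) • (K p).map π = (K p).map π
    rw [← map_conj_smul, (mem_systemNormalizer_iff.1 hx) p]

/-- Central elements lie in every system normalizer. -/
theorem center_le_systemNormalizer (K : Nat.Primes → Subgroup G) :
    Subgroup.center G ≤ systemNormalizer K :=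
  le_iInf fun _ => Subgroup.center_le_normalizer _

/-- The normal closure of a system normalizer is the whole group. -/
theorem normalClosure_systemNormalizer [Finite G] [Group.IsSolvable G]
    {K : Nat.Primes → Subgroup G} (hK : IsComplementSystem K) :
    Subgroup.normalClosure ((systemNormalizer K : Subgroup G) : Set G) = ⊤ := by
  set R := Subgroup.normalClosure ((systemNormalizer K : Subgroup G) : Set G) with hR
  haveI : R.Normal := Subgroup.normalClosure_normal
  haveI : (R ⊔ commutator G).Normal := Subgroup.sup_normal R (commutator G)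
  have htop : R ⊔ commutator G = ⊤ := by
    set M := R ⊔ commutator G with hM
    haveI : IsMulCommutative (G ⧸ M) :=
      Subgroup.Normal.quotient_commutative_iff_commutator_le.2 le_sup_right
    have h1 : systemNormalizer (fun p => (K p).map (QuotientGroup.mk' M)) = ⊤ := by
      refine top_le_iff.1 (le_trans ?_ (center_le_systemNormalizer _))
      intro x _
      rw [Subgroup.mem_center_iff]
      exact fun y => mul_comm' y x
    rw [systemNormalizer_map hK M] at h1
    have h2 : (systemNormalizer K).map (QuotientGroup.mk' M) = ⊥ := by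
      rw [Subgroup.map_eq_bot_iff, QuotientGroup.ker_mk']
      exact le_trans Subgroup.subset_normalClosure le_sup_left
    rw [h2] at h1
    rw [← Subgroup.comap_top (QuotientGroup.mk' M), ← h1, MonoidHom.comap_bot,
      QuotientGroup.ker_mk']
  by_contra hne
  haveI : Nontrivial (G ⧸ R) := by
    rw [← Finite.one_lt_card_iff_nontrivial, ← Subgroup.index_eq_card]
    exact Subgroup.one_lt_index_of_ne_top hne
  haveI : Group.IsSolvable (G ⧸ R) :=
    Group.isSolvable_of_surjective (QuotientGroup.mk'_surjective R)
  refine (Group.IsSolvable.commutator_lt_top_of_nontrivial (G ⧸ R)).ne ?_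
  rw [commutator_def, ← Subgroup.map_top_of_surjective _ (QuotientGroup.mk'_surjective R),
    ← Subgroup.map_commutator, ← commutator_def]
  have h3 := congrArg (Subgroup.map (QuotientGroup.mk' R)) htop
  rwa [Subgroup.map_sup, QuotientGroup.map_mk'_self, bot_sup_eq] at h3

/-- A system normalizer covers central factors. -/
theorem le_sup_systemNormalizer_of_central [Finite G] [Group.IsSolvable G]
    {K : Nat.Primes → Subgroup G} (hK : IsComplementSystem K) (A B : Subgroup G) [A.Normal]
    (hc : ⁅B, (⊤ : Subgroup G)⁆ ≤ A) : B ≤ A ⊔ systemNormalizer K := by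
  have h1 : B.map (QuotientGroup.mk' A) ≤
      systemNormalizer (fun p => (K p).map (QuotientGroup.mk' A)) := by
    refine le_trans ?_ (center_le_systemNormalizer _)
    rintro _ ⟨b, hb, rfl⟩
    rw [Subgroup.mem_center_iff]
    intro y
    obtain ⟨g, rfl⟩ := QuotientGroup.mk'_surjective A y
    have h2 : ⁅b, g⁆ ∈ A := hc (Subgroup.commutator_mem_commutator hb (Subgroup.mem_top g))
    have h3 : ⁅QuotientGroup.mk' A b, QuotientGroup.mk' A g⁆ = 1 := by
      rw [← map_commutatorElement]
      exact (QuotientGroup.eq_one_iff _).2 h2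
    exact (commutatorElement_eq_one_iff_mul_comm.1 h3).symm
  rw [systemNormalizer_map hK A, Subgroup.map_le_iff_le_comap, Subgroup.comap_map_eq,
    QuotientGroup.ker_mk', sup_comm] at h1
  exact h1

/-- The minimal normal case of avoidance. -/
theorem inf_systemNormalizer_eq_bot_of_minimal [Finite G] [Group.IsSolvable G]
    {K : Nat.Primes → Subgroup G} (hK : IsComplementSystem K) (B : Subgroup G) [B.Normal]
    (hmin : ∀ N : Subgroup G, N.Normal → N ≤ B → N = ⊥ ∨ N = B)
    (hnc : ¬ B ≤ Subgroup.center G) : B ⊓ systemNormalizer K = ⊥ := by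
  rw [eq_bot_iff]
  rintro x ⟨hxB, hxD⟩
  rw [Subgroup.mem_bot]
  by_contra hx1
  have hBne : B ≠ ⊥ := fun h => hx1 (Subgroup.mem_bot.1 (h ▸ hxB))
  obtain ⟨p, N, hp, hNn, hNne, hNle, -, hNp⟩ := exists_normal_abelian_pgroup_le hBne
  obtain rfl : N = B := (hmin N hNn hNle).resolve_left hNne
  haveI : Fact p.Prime := ⟨hp⟩
  set P : Nat.Primes := ⟨p, hp⟩ with hP
  have hKP := isComplementSystem_iff.1 hK P
  have hNK : ∀ y ∈ N, y ∈ K P → y = 1 := fun y hy hy' => by
    have h : N ⊓ K P = ⊥ := inf_eq_bot_of_coprime <| (coprime_of_piGroup (π := {q | q ≠ p}) hKP.1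
      fun q hq hne hd => hne (prime_dvd_pgroup hp hq hNp hd)).symm
    exact Subgroup.mem_bot.1 (h ▸ ⟨hy, hy'⟩ : y ∈ (⊥ : Subgroup G))
  have hxK : ∀ k ∈ K P, k * x = x * k := by
    intro k hk
    have hnorm : x ∈ Subgroup.normalizer (K P : Set G) :=
      (Subgroup.mem_iInf.1 hxD) P
    have h1 : x * k * x⁻¹ * k⁻¹ ∈ N := by
      have := N.mul_mem hxB (Subgroup.Normal.conj_mem ‹_› x⁻¹ (N.inv_mem hxB) k)
      simpa [mul_assoc] using this
    have h2 : x * k * x⁻¹ * k⁻¹ ∈ K P :=
      (K P).mul_mem ((Subgroup.mem_normalizer_iff.1 hnorm k).1 hk) ((K P).inv_mem hk)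
    exact (commutatorElement_eq_one_iff_mul_comm.1 (hNK _ h1 h2)).symm
  set C := Subgroup.centralizer (N : Set G) with hC
  haveI : C.Normal := Subgroup.normal_centralizer
  have hCne : C ≠ ⊤ := fun h => hnc fun b hb => by
    rw [Subgroup.mem_center_iff]
    exact fun g => ((Subgroup.mem_centralizer_iff.1 (h.symm ▸ Subgroup.mem_top g : g ∈ C)) b hb).symm
  haveI : Nontrivial (G ⧸ C) := by
    rw [← Finite.one_lt_card_iff_nontrivial, ← Subgroup.index_eq_card]
    exact Subgroup.one_lt_index_of_ne_top hCne
  haveI : Group.IsSolvable (G ⧸ C) :=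
    Group.isSolvable_of_surjective (QuotientGroup.mk'_surjective C)
  obtain ⟨q, Mbar, hq, hMn, hMne, -, hMq⟩ := exists_normal_abelian_pgroup (G := G ⧸ C)
  haveI := hMn
  haveI : Fact q.Prime := ⟨hq⟩
  set π := QuotientGroup.mk' C with hπ
  have hsurj : Function.Surjective π := QuotientGroup.mk'_surjective C
  set M := Mbar.comap π with hM
  haveI : M.Normal := Subgroup.Normal.comap hMn π
  haveI : (N ⊓ Subgroup.centralizer (M : Set G)).Normal := Subgroup.normal_inf_normal _ _
  have hCM : C ≤ M := fun c hc => by
    rw [hM, Subgroup.mem_comap, hπ, QuotientGroup.mk'_apply, (QuotientGroup.eq_one_iff c).2 hc]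
    exact one_mem _
  have hnot : N ⊓ Subgroup.centralizer (M : Set G) = ⊥ := by
    refine (hmin _ inferInstance inf_le_left).resolve_right fun h => hMne ?_
    have hMC : M ≤ C := fun m hm => by
      rw [hC, Subgroup.mem_centralizer_iff]
      intro b hb
      have hb' : b ∈ Subgroup.centralizer (M : Set G) := (h.ge hb).2
      exact ((Subgroup.mem_centralizer_iff.1 hb') m hm).symm
    rw [← Subgroup.map_comap_eq_self_of_surjective hsurj Mbar, ← hM, Subgroup.map_eq_bot_iff, hπ,
      QuotientGroup.ker_mk']
    exact hMC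
  by_cases hqp : q = p
  · subst hqp
    obtain ⟨S⟩ : Nonempty (Sylow q M) := inferInstance
    set S' := (S : Subgroup M).map M.subtype with hS'
    have hMS : M ≤ S' ⊔ C := by
      have hle : S'.map π ≤ Mbar := by
        rw [Subgroup.map_le_iff_le_comap, ← hM]; exact Subgroup.map_subtype_le _
      have hidx : (S'.map π).relIndex Mbar = 1 := by
        obtain ⟨n, hn⟩ := hMq.index ((S'.map π).subgroupOf Mbar)
        rcases n.eq_zero_or_pos with rfl | hpos
        · simpa [Subgroup.relIndex] using hn
        · exfalso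
          have hd : (S'.map π).relIndex Mbar ∣ S'.relIndex M := by
            have h := Subgroup.relIndex_map_map π S' M
            rw [hM, Subgroup.map_comap_eq_self_of_surjective hsurj] at h
            rw [h, hπ, QuotientGroup.ker_mk', ← hM, sup_eq_left.2 hCM]
            exact Dvd.intro_left _ (Subgroup.relIndex_mul_relIndex S' (S' ⊔ C) M le_sup_left
              (sup_le (Subgroup.map_subtype_le _) hCM))
          refine S.not_dvd_index ?_
          have h3 : S'.relIndex M = (S : Subgroup M).index := by
            rw [hS', Subgroup.relIndex, Subgroup.subgroupOf,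
              Subgroup.comap_map_eq_self_of_injective M.subtype_injective]
          rw [← h3]
          refine dvd_trans ?_ hd
          rw [Subgroup.relIndex, hn]
          exact dvd_pow_self q hpos.ne'
      have := Subgroup.comap_mono (f := π) (Subgroup.relIndex_eq_one.1 hidx)
      rwa [Subgroup.comap_map_eq, hπ, QuotientGroup.ker_mk'] at this
    let _ : MulAction S' N := MulAction.compHom N ((MulAut.conjNormal (H := N)).comp S'.subtype)
    have hdvd : q ∣ Nat.card N := by
      obtain ⟨n, hn⟩ := IsPGroup.iff_card.1 hNp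
      rw [hn]
      refine dvd_pow_self q fun h0 => hBne (Subgroup.eq_bot_of_card_eq N ?_)
      rw [hn, h0, pow_zero]
    have h1fix : (1 : N) ∈ MulAction.fixedPoints S' N := fun s => map_one (MulAut.conjNormal (H := N) (s : G))
    obtain ⟨b, hb, hb1⟩ :=
      (S.isPGroup'.map M.subtype).exists_fixed_point_of_prime_dvd_card_of_fixed_point N hdvd h1fix
    refine hb1 (Subtype.ext ?_).symm
    rw [Subgroup.coe_one, ← Subgroup.mem_bot, ← hnot]
    refine Subgroup.mem_inf.2 ⟨b.2, ?_⟩
    rw [Subgroup.mem_centralizer_iff]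
    intro m hm
    obtain ⟨s, hs, c, hc, rfl⟩ := Subgroup.mem_sup_of_normal_right.1 (hMS hm)
    have e1 : s * (b : G) * s⁻¹ = b := congrArg Subtype.val (hb ⟨s, hs⟩)
    have e2 : s * (b : G) = b * s := mul_inv_eq_iff_eq_mul.1 e1
    have e3 : (b : G) * c = c * b := (Subgroup.mem_centralizer_iff.1 hc) b b.2
    rw [mul_assoc, ← e3, ← mul_assoc, e2, mul_assoc]
  · have hMK : M ≤ K P ⊔ C := by
      have h1 : ¬ q ∣ ((K P).map π).index := fun h =>
        hKP.2 q hq hqp (h.trans (Subgroup.index_map_dvd _ hsurj))
      have h2 := Subgroup.comap_mono (f := π) (Systems.le_of_not_dvd_index hMq h1)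
      rwa [Subgroup.comap_map_eq, hπ, QuotientGroup.ker_mk'] at h2
    refine hx1 ?_
    rw [← Subgroup.mem_bot, ← hnot]
    refine Subgroup.mem_inf.2 ⟨hxB, ?_⟩
    rw [Subgroup.mem_centralizer_iff]
    intro m hm
    obtain ⟨k, hk, c, hc, rfl⟩ := Subgroup.mem_sup_of_normal_right.1 (hMK hm)
    have e3 : x * c = c * x := (Subgroup.mem_centralizer_iff.1 hc) x hxB
    rw [mul_assoc, ← e3, ← mul_assoc, hxK k hk, mul_assoc]

/-- A system normalizer avoids non-central chief factors. -/
theorem inf_systemNormalizer_le_of_chief [Finite G] [Group.IsSolvable G]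
    {K : Nat.Primes → Subgroup G} (hK : IsComplementSystem K) (A B : Subgroup G) [A.Normal]
    [B.Normal] (hAB : A ≤ B)
    (hchief : ∀ N : Subgroup G, N.Normal → A ≤ N → N ≤ B → N = A ∨ N = B)
    (hnc : ¬ ⁅B, (⊤ : Subgroup G)⁆ ≤ A) : B ⊓ systemNormalizer K ≤ A := by
  set π := QuotientGroup.mk' A with hπ
  have hsurj : Function.Surjective π := QuotientGroup.mk'_surjective A
  haveI : Group.IsSolvable (G ⧸ A) := Group.isSolvable_of_surjective hsurj
  haveI : (B.map π).Normal := Subgroup.Normal.map inferInstance π hsurj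
  have h := inf_systemNormalizer_eq_bot_of_minimal (isComplementSystem_map hK π hsurj) (B.map π)
    (fun N hN hle => by
      have hle' : N.comap π ≤ B := by
        refine (Subgroup.comap_mono hle).trans ?_
        rw [Subgroup.comap_map_eq, hπ, QuotientGroup.ker_mk', sup_eq_left.2 hAB]
      rcases hchief (N.comap π) (hN.comap π) (by
        rw [hπ]; exact QuotientGroup.le_comap_mk' A N) hle' with h | h
      · left
        rw [← Subgroup.map_comap_eq_self_of_surjective hsurj N, h, hπ, QuotientGroup.map_mk'_self]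
      · right
        rw [← Subgroup.map_comap_eq_self_of_surjective hsurj N, h])
    (fun h => hnc (by
      rw [Subgroup.commutator_le]
      intro b hb g _
      rw [← QuotientGroup.eq_one_iff, ← QuotientGroup.mk'_apply (N := A), map_commutatorElement,
        commutatorElement_eq_one_iff_mul_comm]
      exact ((Subgroup.mem_center_iff.1 (h (Subgroup.mem_map_of_mem π hb))) (π g)).symm))
  intro x hx
  rw [← QuotientGroup.eq_one_iff, ← QuotientGroup.mk'_apply (N := A), ← Subgroup.mem_bot, ← hπ, ← h,
    systemNormalizer_map hK A]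
  exact ⟨Subgroup.mem_map_of_mem π hx.1, Subgroup.mem_map_of_mem π hx.2⟩

end Cfsg.Agent.Lib.Hall.SystemNormalizer
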