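import Cfsg.Agent.Lib.Hall.Systems
import Cfsg.Agent.Lib.Induced.Burnside

/-!
# Hall's converse

Namespace `Cfsg.Agent.Lib.Hall.Converse`.
-/

set_option autoImplicit false

open scoped Pointwise

namespace Cfsg.Agent.Lib.Hall.Converse

universe u

/-- Burnside, in the form "at most two prime divisors". -/
theorem isSolvable_of_card_primeFactors_le_two {G : Type u} [Group G] [Finite G]
    (h : (Nat.card G).primeFactors.card ≤ 2) : Group.IsSolvable G := by
  set n := Nat.card G with hn
  have hne : n ≠ 0 := Nat.card_pos.ne'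
  have hprod : ∏ r ∈ n.primeFactors, r ^ n.factorization r = n := by
    refine Eq.trans ?_ (Nat.prod_factorization_pow_eq_self hne)
    rw [Finsupp.prod, Nat.support_factorization]
  interval_cases hc : n.primeFactors.card
  · rw [Finset.card_eq_zero.1 hc, Finset.prod_empty] at hprod
    exact Cfsg.Agent.Lib.Induced.Burnside.isSolvable_of_card_eq 2 2 0 0 Nat.prime_two Nat.prime_two
      (hn ▸ hprod.symm)
  · obtain ⟨p, hp⟩ := Finset.card_eq_one.1 hc
    have hpp : p.Prime := Nat.prime_of_mem_primeFactors (hp ▸ Finset.mem_singleton_self p)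
    rw [hp, Finset.prod_singleton] at hprod
    exact Cfsg.Agent.Lib.Induced.Burnside.isSolvable_of_card_eq p p (n.factorization p) 0 hpp hpp
      (by rw [pow_zero, mul_one, hprod])
  · obtain ⟨p, q, hpq, hp⟩ := Finset.card_eq_two.1 hc
    have hpp : p.Prime := Nat.prime_of_mem_primeFactors (by rw [hp]; simp)
    have hqq : q.Prime := Nat.prime_of_mem_primeFactors (by rw [hp]; simp)
    rw [hp, Finset.prod_pair hpq] at hprod
    exact Cfsg.Agent.Lib.Induced.Burnside.isSolvable_of_card_eq p q _ _ hpp hqq hprod.symm

/-- Hall's converse: a complement system forces solvability. -/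
theorem isSolvable_of_complements {G : Type u} [Group G] [Finite G]
    (h : ∀ p : ℕ, p.Prime → ∃ H : Subgroup G, H.index = p ^ (Nat.card G).factorization p) :
    Group.IsSolvable G := by
  obtain ⟨K, hK⟩ := Classical.axiom_of_choice
    (r := fun (p : Nat.Primes) (H : Subgroup G) => H.index = (p : ℕ) ^ (Nat.card G).factorization p)
    fun p => h p p.2
  exact Systems.isSolvable_of_complementSystem
    (fun H _ _ hH => isSolvable_of_card_primeFactors_le_two hH) K hK

/-- A finite group with a Sylow system is solvable. -/
theorem isSolvable_of_sylowSystem {G : Type u} [Group G] [Finite G]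
    (S : (p : Nat.Primes) → Sylow (p : ℕ) G)
    (hS : ∀ p q : Nat.Primes, (S p : Set G) * (S q : Set G) = (S q : Set G) * (S p : Set G)) :
    Group.IsSolvable G := by
  obtain ⟨K, hK⟩ := Systems.exists_complementSystem_of_sylowSystem S hS
  exact isSolvable_of_complements fun p hp => ⟨K ⟨p, hp⟩, hK ⟨p, hp⟩⟩

end Cfsg.Agent.Lib.Hall.Converse
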