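import Cfsg.Agent.Lib.Hall.SystemNormalizer
import Cfsg.Agent.Lib.Coprime.Conjugacy
import Cfsg.Agent.Lib.PSolvable.Basic

/-!
# Hall `p`-complements of `p`-solvable groups

Namespace `Cfsg.Agent.Lib.Hall.PSolvable`. A `p`-complement is `IsPiHall {q | q ≠ p}`.
-/

set_option autoImplicit false
set_option linter.style.haveILetI false

open scoped Pointwise
open Cfsg

namespace Cfsg.Agent.Lib.Hall.PSolvable

universe u

variable {G : Type u} [Group G]

theorem isPiHall_iff_coprime [Finite G] {p : ℕ} (hp : p.Prime) (H : Subgroup G) :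
    IsPiHall {q | q ≠ p} H ↔ (Nat.card H).Coprime p ∧ ∃ n : ℕ, H.index = p ^ n := by
  constructor
  · intro h
    exact ⟨(hp.coprime_iff_not_dvd.2 fun hd => h.1 p hp hd rfl).symm,
      _, (SystemNormalizer.index_eq_pow_iff hp H).2 h⟩
  · rintro ⟨h, n, hn⟩
    refine ⟨fun q hq hd hqp => hp.coprime_iff_not_dvd.1 h.symm (hqp ▸ hd), fun q hq hmem hd => ?_⟩
    rw [hn] at hd
    exact hmem ((Nat.prime_dvd_prime_iff_eq hq hp).1 (hq.dvd_of_dvd_pow hd))

/-- A nontrivial `p`-solvable group has a nontrivial normal subgroup that is a `p`-group or `p'`. -/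
theorem exists_normal [Finite G] [Nontrivial G] {p : ℕ} [Fact p.Prime] (hG : IsPSolvable p G) :
    ∃ N : Subgroup G, N.Normal ∧ N ≠ ⊥ ∧ (IsPGroup p N ∨ (Nat.card N).Coprime p) := by
  rcases Lib.PSolvable.cores_ne_bot hG with h | h
  · exact ⟨pCore p G, Subgroup.sSup_normal _ fun _ h => h.1, h, Or.inl Lib.PSolvable.isPGroup_pCore⟩
  · exact ⟨pPrimeCore p G, Subgroup.sSup_normal _ fun _ h => h.1, h,
      Or.inr Lib.PSolvable.card_pPrimeCore_coprime⟩

/-- A `p`-solvable group has a `p`-complement. -/
theorem exists_pComplement [Finite G] {p : ℕ} [Fact p.Prime] (hG : IsPSolvable p G) :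
    ∃ H : Subgroup G, IsPiHall {q | q ≠ p} H := by
  have hp : p.Prime := Fact.out
  suffices key : ∀ (n : ℕ) (G : Type u) [Group G] [Finite G], Nat.card G = n → IsPSolvable p G →
      ∃ H : Subgroup G, IsPiHall {q | q ≠ p} H from key _ G rfl hG
  intro n
  induction n using Nat.strongRecOn with
  | ind n ih =>
    intro G _ _ hn hG
    rcases subsingleton_or_nontrivial G with hs | hs
    · refine ⟨⊥, fun q hq hd => ?_, fun q hq _ hd => ?_⟩
      · exact absurd (Subgroup.card_bot (G := G) ▸ hd) hq.not_dvd_one
      · rw [Subgroup.index_bot, Nat.card_of_subsingleton (1 : G)] at hd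
        exact hq.not_dvd_one hd
    obtain ⟨N, hNn, hne, hN⟩ := exists_normal hG
    haveI := hNn
    obtain ⟨K, hK⟩ := ih _ (hn ▸ card_quotient_lt hne) (G ⧸ N) rfl
      (Lib.PSolvable.isPSolvable_quotient hG N)
    set f := QuotientGroup.mk' N with hf
    set L := K.comap f with hL
    have hNL : N ≤ L := QuotientGroup.le_comap_mk' N K
    have hidx : L.index = K.index := Subgroup.index_comap_of_surjective K (QuotientGroup.mk'_surjective N)
    have hrel : N.relIndex L = Nat.card K := by
      have h := Subgroup.relIndex_ker (K := L) f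
      rwa [hf, QuotientGroup.ker_mk', hL,
        Subgroup.map_comap_eq_self_of_surjective (QuotientGroup.mk'_surjective N)] at h
    have hcard : Nat.card L = Nat.card N * Nat.card K := by
      have h := Subgroup.relIndex_mul_relIndex (⊥ : Subgroup G) N L bot_le hNL
      rw [Subgroup.relIndex_bot_left, Subgroup.relIndex_bot_left, hrel] at h
      exact h.symm
    rcases hN with hNp | hNc
    · have hcop : (Nat.card (N.subgroupOf L)).Coprime (N.subgroupOf L).index := by
        rw [Nat.card_congr (Subgroup.subgroupOfEquivOfLe hNL).toEquiv, ← Subgroup.relIndex, hrel]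
        exact (coprime_of_piGroup hK.1
          fun q hq hmem hd => hmem (prime_dvd_pgroup hp hq hNp hd)).symm
      obtain ⟨C, hC⟩ := Subgroup.exists_right_complement'_of_coprime hcop
      have hCc : Nat.card (C.map L.subtype) = Nat.card K := by
        rw [Subgroup.card_subtype, ← hC.symm.index_eq_card, ← Subgroup.relIndex, hrel]
      refine ⟨C.map L.subtype, fun q hq hd => hK.1 q hq (hCc ▸ hd), fun q hq hmem hd => ?_⟩
      rw [Subgroup.index_map_subtype, hC.index_eq_card,
        Nat.card_congr (Subgroup.subgroupOfEquivOfLe hNL).toEquiv, hidx] at hd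
      rcases hq.dvd_mul.1 hd with h | h
      · exact hmem (prime_dvd_pgroup hp hq hNp h)
      · exact hK.2 q hq hmem h
    · refine ⟨L, fun q hq hd => ?_, fun q hq hmem => hidx ▸ hK.2 q hq hmem⟩
      rw [hcard] at hd
      rcases hq.dvd_mul.1 hd with h | h
      · rintro rfl
        exact hp.coprime_iff_not_dvd.1 hNc.symm h
      · exact hK.1 q hq h

/-- Every `p'`-subgroup of a `p`-solvable group lies in a conjugate of a given `p`-complement. -/
theorem exists_conj_le [Finite G] {p : ℕ} [Fact p.Prime] (hG : IsPSolvable p G) {H : Subgroup G}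
    (hH : IsPiHall {q | q ≠ p} H) {U : Subgroup G} (hU : (Nat.card U).Coprime p) :
    ∃ g : G, U ≤ MulAut.conj g • H := by
  have hp : p.Prime := Fact.out
  suffices key : ∀ (n : ℕ) (G : Type u) [Group G] [Finite G], Nat.card G = n → IsPSolvable p G →
      ∀ H U : Subgroup G, IsPiHall {q | q ≠ p} H → (Nat.card U).Coprime p →
      ∃ g : G, U ≤ MulAut.conj g • H from key _ G rfl hG H U hH hU
  intro n
  induction n using Nat.strongRecOn with
  | ind n ih =>
    intro G _ _ hn hG H U hH hU
    rcases subsingleton_or_nontrivial G with hs | hs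
    · exact ⟨1, fun x hx => by rw [Subsingleton.elim x 1]; exact one_mem _⟩
    obtain ⟨N, hNn, hne, hN⟩ := exists_normal hG
    haveI := hNn
    set f := QuotientGroup.mk' N with hf
    have hsurj : Function.Surjective f := QuotientGroup.mk'_surjective N
    obtain ⟨gbar, hg⟩ := ih _ (hn ▸ card_quotient_lt hne) (G ⧸ N) rfl
      (Lib.PSolvable.isPSolvable_quotient hG N) (H.map f) (U.map f) (isPiHall_map hH f hsurj)
      (hU.coprime_dvd_left (Subgroup.card_map_dvd U f))
    obtain ⟨g, rfl⟩ := hsurj gbar
    set H' := MulAut.conj g • H with hH'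
    have hH'h : IsPiHall {q | q ≠ p} H' := isPiHall_conj hH g
    have hUle : U ≤ H' ⊔ N := by
      intro x hx
      have h1 := hg (Subgroup.mem_map_of_mem f hx)
      rw [← SystemNormalizer.map_conj_smul] at h1
      have h2 : x ∈ (H'.map f).comap f := h1
      rwa [Subgroup.comap_map_eq, hf, QuotientGroup.ker_mk'] at h2
    rcases hN with hNp | hNc
    · haveI : Group.IsSolvable N := by
        haveI := hNp.isNilpotent
        infer_instance
      have hcop : ∀ X : Subgroup G, (Nat.card X).Coprime p → (Nat.card X).Coprime (Nat.card N) := by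
        intro X hX
        obtain ⟨k, hk⟩ := IsPGroup.iff_card.1 hNp
        rw [hk]
        exact hX.pow_right k
      have hH'c : (Nat.card H').Coprime p :=
        (hp.coprime_iff_not_dvd.2 fun hd => hH'h.1 p hp hd rfl).symm
      set B := H' ⊓ (U ⊔ N) with hB
      have hBc : (Nat.card B).Coprime p :=
        hH'c.coprime_dvd_left (Subgroup.card_dvd_of_le inf_le_left)
      have hBN : B ⊔ N = U ⊔ N := by
        refine le_antisymm (sup_le inf_le_right le_sup_right) fun w hw => ?_
        obtain ⟨m, hm, h, hh, rfl⟩ := Subgroup.mem_sup_of_normal_left.1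
          (show w ∈ N ⊔ H' by rw [sup_comm]; exact sup_le hUle le_sup_right hw)
        refine mul_mem (Subgroup.mem_sup_right hm) (Subgroup.mem_sup_left ⟨hh, ?_⟩)
        have := (U ⊔ N).mul_mem ((U ⊔ N).inv_mem (Subgroup.mem_sup_right hm)) hw
        rwa [inv_mul_cancel_left] at this
      have hcard : Nat.card U = Nat.card B := by
        have e : ∀ X : Subgroup G, (Nat.card X).Coprime p →
            Nat.card (X ⊔ N : Subgroup G) = Nat.card X * Nat.card N := fun X hX =>
          Lib.Coprime.card_sup_of_disjoint Subgroup.le_normalizer_of_normal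
            (Subgroup.disjoint_of_coprime_natCard (hcop X hX))
        have h := e U hU
        rw [← hBN, e B hBc] at h
        exact (Nat.eq_of_mul_eq_mul_right Nat.card_pos h).symm
      obtain ⟨m, -, hm⟩ := Lib.Coprime.exists_conj_eq_of_coprime (A := B) (B := U) (K := N)
        Subgroup.le_normalizer_of_normal (hcop B hBc) (Or.inr inferInstance)
        (hBN ▸ le_sup_left) hcard
      refine ⟨m * g, ?_⟩
      rw [map_mul, mul_smul, ← hm]
      exact Subgroup.pointwise_smul_le_pointwise_smul_iff.2 inf_le_left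
    · refine ⟨g, le_of_le_of_eq hUle (isPiHall_eq_of_le hH'h ?_ le_sup_left).symm⟩
      intro q hq hd
      rcases hq.dvd_mul.1 (hd.trans (card_sup_dvd H' N)) with h | h
      · exact hH'h.1 q hq h
      · rintro rfl
        exact hp.coprime_iff_not_dvd.1 hNc.symm h

/-- `p`-complements of a `p`-solvable group are conjugate. -/
theorem exists_conj_eq [Finite G] {p : ℕ} [Fact p.Prime] (hG : IsPSolvable p G) {H K : Subgroup G}
    (hH : IsPiHall {q | q ≠ p} H) (hK : IsPiHall {q | q ≠ p} K) :
    ∃ g : G, MulAut.conj g • H = K := by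
  obtain ⟨g, hg⟩ := exists_conj_le hG hH
    ((isPiHall_iff_coprime Fact.out K).1 hK).1
  exact ⟨g, (isPiHall_eq_of_le hK (isPiHall_conj hH g).1 hg).symm⟩

end Cfsg.Agent.Lib.Hall.PSolvable
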